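import Groth.Agent.H20Luna.Stable
import Groth.Agent.H20Comod.OrbitPrimes
import Mathlib.RingTheory.Adjoin.Basic
import Mathlib.Algebra.MvPolynomial.Eval

/-!
Comodule algebras: structures given on generators, tensor products, quotients, linear presentations,
and averaged derivations.
-/

set_option autoImplicit false
set_option linter.style.haveILetI false
set_option linter.unusedSectionVars false
set_option backward.isDefEq.respectTransparency false
set_option maxHeartbeats 400000

universe u

open TensorProduct HopfRep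
open Groth.Agent.H20Comod

namespace Groth.Agent.H20Slice

noncomputable section

variable {k : Type u} [Field k] {A : Type u} [CommRing A] [HopfAlgebra k A]

/-- An algebra map `T → T ⊗ A` which is a coaction on generators is a coaction. -/
theorem exists_comod_of_algHom {T : Type u} [CommRing T] [Algebra k T] (Φ : T →ₐ[k] T ⊗[k] A) (s : Set T)
    (hs : Algebra.adjoin k s = ⊤)
    (hco : ∀ t ∈ s, TensorProduct.assoc k T A A (Φ.toLinearMap.rTensor A (Φ t)) =
      (CoalgebraStruct.comul (R := k)).lTensor T (Φ t))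
    (hcu : ∀ t ∈ s, (CoalgebraStruct.counit (R := k) (A := A)).lTensor T (Φ t) = t ⊗ₜ[k] (1 : k)) :
    ∃ c : Comod k A T, @GLin.IsCoactAlg k _ A _ _ T _ _ c ∧ c.coact = Φ.toLinearMap := by
  let F : T →ₐ[k] T ⊗[k] (A ⊗[k] A) :=
    ((Algebra.TensorProduct.assoc k k k T A A).toAlgHom.comp (Algebra.TensorProduct.map Φ (AlgHom.id k A))).comp Φ
  let G : T →ₐ[k] T ⊗[k] (A ⊗[k] A) :=
    (Algebra.TensorProduct.map (AlgHom.id k T) (Bialgebra.comulAlgHom k A)).comp Φ
  have hF : ∀ t, F t = TensorProduct.assoc k T A A (Φ.toLinearMap.rTensor A (Φ t)) := fun t => rfl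
  have hG : ∀ t, G t = (CoalgebraStruct.comul (R := k)).lTensor T (Φ t) := fun t => rfl
  have hFG : F = G := AlgHom.ext_of_adjoin_eq_top hs fun t ht => by rw [hF, hG]; exact hco t ht
  let U : T →ₐ[k] T ⊗[k] k := (Algebra.TensorProduct.map (AlgHom.id k T) (Bialgebra.counitAlgHom k A)).comp Φ
  let V : T →ₐ[k] T ⊗[k] k := Algebra.TensorProduct.includeLeft
  have hUV : U = V := AlgHom.ext_of_adjoin_eq_top hs fun t ht => hcu t ht
  let c : Comod k A T :=
    { coact := Φ.toLinearMap
      coassoc := LinearMap.ext fun t => (hF t).symm.trans ((AlgHom.congr_fun hFG t).trans (hG t))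
      counit_comp := LinearMap.ext fun t => AlgHom.congr_fun hUV t }
  exact ⟨c, @GLin.IsCoactAlg.mk k _ A _ _ T _ _ c (map_one Φ) (map_mul Φ), rfl⟩

/-- A coaction carried along a map. -/
theorem coassoc_transfer {R T : Type u} [CommRing R] [Algebra k R] [Comod k A R] [CommRing T] [Algebra k T]
    (π : R →ₗ[k] T) (Φ : T →ₗ[k] T ⊗[k] A) (h : ∀ r, Φ (π r) = π.rTensor A (Comod.coact (k := k) (A := A) r))
    (r : R) :
    TensorProduct.assoc k T A A (Φ.rTensor A (Φ (π r))) = (CoalgebraStruct.comul (R := k)).lTensor T (Φ (π r)) ∧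
      (CoalgebraStruct.counit (R := k) (A := A)).lTensor T (Φ (π r)) = π r ⊗ₜ[k] (1 : k) := by
  have hco := LinearMap.congr_fun (Comod.coassoc (k := k) (A := A) (V := R)) r
  have hcu := LinearMap.congr_fun (Comod.counit_comp (k := k) (A := A) (V := R)) r
  simp only [LinearMap.coe_comp, Function.comp_apply, LinearEquiv.coe_coe] at hco hcu
  rw [h]
  constructor
  · rw [← LinearMap.rTensor_comp_apply, show Φ ∘ₗ π = π.rTensor A ∘ₗ Comod.coact (k := k) (A := A) from LinearMap.ext h,
      LinearMap.rTensor_comp_apply, ← LinearMap.comp_apply (LinearMap.lTensor T _), LinearMap.lTensor_comp_rTensor,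
      ← LinearMap.rTensor_comp_lTensor, LinearMap.comp_apply, ← hco]
    generalize LinearMap.rTensor A (Comod.coact (k := k) (A := A)) (Comod.coact (k := k) (A := A) r) = z
    induction z using TensorProduct.induction_on with
    | zero => simp
    | add u v hu hv => simp only [map_add, hu, hv]
    | tmul p a =>
      induction p using TensorProduct.induction_on with
      | zero => simp
      | add u v hu hv => simp only [map_add, TensorProduct.add_tmul, hu, hv]
      | tmul p b => simp
  · rw [← LinearMap.comp_apply (LinearMap.lTensor T _), LinearMap.lTensor_comp_rTensor,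
      ← LinearMap.rTensor_comp_lTensor, LinearMap.comp_apply, hcu]
    simp

section Tensor

variable {C P : Type u} [CommRing C] [Algebra k C] [Comod k A C] [GLin.IsCoactAlg k A C]
  [CommRing P] [Algebra k P] [Comod k A P] [GLin.IsCoactAlg k A P]

/-- The coaction on a tensor product of comodule algebras. -/
theorem exists_comod_tensor :
    ∃ c : Comod k A (C ⊗[k] P), @GLin.IsCoactAlg k _ A _ _ (C ⊗[k] P) _ _ c ∧
      (∀ a : C, c.coact (a ⊗ₜ[k] 1) =
        (Algebra.TensorProduct.includeLeft : C →ₐ[k] C ⊗[k] P).toLinearMap.rTensor A (Comod.coact (k := k) (A := A) a)) ∧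
      ∀ p : P, c.coact (1 ⊗ₜ[k] p) =
        (Algebra.TensorProduct.includeRight : P →ₐ[k] C ⊗[k] P).toLinearMap.rTensor A (Comod.coact (k := k) (A := A) p) := by
  let iC : C →ₐ[k] C ⊗[k] P := Algebra.TensorProduct.includeLeft
  let iP : P →ₐ[k] C ⊗[k] P := Algebra.TensorProduct.includeRight
  let F : C →ₐ[k] (C ⊗[k] P) ⊗[k] A := (Algebra.TensorProduct.map iC (AlgHom.id k A)).comp (GLin.coactAlgHom k A C)
  let G : P →ₐ[k] (C ⊗[k] P) ⊗[k] A := (Algebra.TensorProduct.map iP (AlgHom.id k A)).comp (GLin.coactAlgHom k A P)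
  let Φ : C ⊗[k] P →ₐ[k] (C ⊗[k] P) ⊗[k] A := Algebra.TensorProduct.lift F G fun _ _ => Commute.all _ _
  have hC : ∀ a : C, Φ (a ⊗ₜ[k] 1) = iC.toLinearMap.rTensor A (Comod.coact (k := k) (A := A) a) := fun a => by
    show Algebra.TensorProduct.lift F G _ _ = _
    rw [Algebra.TensorProduct.lift_tmul, map_one G, mul_one]
    rfl
  have hP : ∀ p : P, Φ (1 ⊗ₜ[k] p) = iP.toLinearMap.rTensor A (Comod.coact (k := k) (A := A) p) := fun p => by
    show Algebra.TensorProduct.lift F G _ _ = _
    rw [Algebra.TensorProduct.lift_tmul, map_one F, one_mul]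
    rfl
  have htop : Algebra.adjoin k (Set.range iC ∪ Set.range iP) = ⊤ := by
    rw [eq_top_iff]
    intro t _
    induction t using TensorProduct.induction_on with
    | zero => exact Subalgebra.zero_mem _
    | add u v hu hv => exact Subalgebra.add_mem _ (hu trivial) (hv trivial)
    | tmul a p =>
      rw [show a ⊗ₜ[k] p = iC a * iP p by simp [iC, iP]]
      exact Subalgebra.mul_mem _ (Algebra.subset_adjoin (Or.inl ⟨a, rfl⟩)) (Algebra.subset_adjoin (Or.inr ⟨p, rfl⟩))
  obtain ⟨c, hc, hcc⟩ := exists_comod_of_algHom Φ _ htop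
    (by
      rintro _ (⟨a, rfl⟩ | ⟨p, rfl⟩)
      · exact (coassoc_transfer iC.toLinearMap Φ.toLinearMap hC a).1
      · exact (coassoc_transfer iP.toLinearMap Φ.toLinearMap hP p).1)
    (by
      rintro _ (⟨a, rfl⟩ | ⟨p, rfl⟩)
      · exact (coassoc_transfer iC.toLinearMap Φ.toLinearMap hC a).2
      · exact (coassoc_transfer iP.toLinearMap Φ.toLinearMap hP p).2)
  exact ⟨c, hc, fun a => hcc ▸ hC a, fun p => hcc ▸ hP p⟩

end Tensor

section Quotient

variable {R : Type u} [CommRing R] [Algebra k R] [Comod k A R] [GLin.IsCoactAlg k A R]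

/-- The coaction on the quotient by a stable ideal. -/
theorem exists_comod_quotient (I : Ideal R) (hI : IsSubcomod (k := k) (A := A) (I.restrictScalars k)) :
    ∃ c : Comod k A (R ⧸ I), @GLin.IsCoactAlg k _ A _ _ (R ⧸ I) _ _ c ∧
      @Hoch.IsComodHom k _ A _ _ _ R _ _ _ (R ⧸ I) _ _ c (Ideal.Quotient.mkₐ k I).toLinearMap := by
  let π := Ideal.Quotient.mkₐ k I
  let Φ : R ⧸ I →ₐ[k] (R ⧸ I) ⊗[k] A :=
    Ideal.Quotient.liftₐ I ((Algebra.TensorProduct.map π (AlgHom.id k A)).comp (GLin.coactAlgHom k A R)) fun r hr => by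
      obtain ⟨y, hy⟩ := hI r hr
      show π.toLinearMap.rTensor A (Comod.coact (k := k) (A := A) r) = 0
      rw [← hy, ← LinearMap.rTensor_comp_apply,
        show π.toLinearMap ∘ₗ (I.restrictScalars k).subtype = 0 from
          LinearMap.ext fun z => Ideal.Quotient.eq_zero_iff_mem.2 z.2, LinearMap.rTensor_zero, LinearMap.zero_apply]
  have h : ∀ r, Φ.toLinearMap (π.toLinearMap r) = π.toLinearMap.rTensor A (Comod.coact (k := k) (A := A) r) :=
    fun r => rfl
  obtain ⟨c, hc, hcc⟩ := exists_comod_of_algHom Φ (Set.range π)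
    (by rw [Set.range_eq_univ.2 (Ideal.Quotient.mkₐ_surjective k I), Algebra.adjoin_univ])
    (by rintro _ ⟨r, rfl⟩; exact (coassoc_transfer π.toLinearMap Φ.toLinearMap h r).1)
    (by rintro _ ⟨r, rfl⟩; exact (coassoc_transfer π.toLinearMap Φ.toLinearMap h r).2)
  refine ⟨c, hc, LinearMap.ext fun r => ?_⟩
  show c.coact (π r) = _
  rw [hcc]
  exact h r

end Quotient

/-- Every affine scheme of finite type with an action embeds equivariantly into a representation. -/
theorem exists_linear_presentation {R : Type u} [CommRing R] [Algebra k R] [Algebra.FiniteType k R]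
    [Comod k A R] [GLin.IsCoactAlg k A R] :
    ∃ (ι : Type u) (_ : Fintype ι) (c : Comod k A (MvPolynomial ι k))
      (_ : @GLin.IsCoactAlg k _ A _ _ (MvPolynomial ι k) _ _ c) (π : MvPolynomial ι k →ₐ[k] R),
      Function.Surjective π ∧ @Hoch.IsComodHom k _ A _ _ _ (MvPolynomial ι k) _ _ c R _ _ _ π.toLinearMap ∧
      ∀ i, ∃ y : ι → A, c.coact (MvPolynomial.X i) = ∑ j, (MvPolynomial.X j) ⊗ₜ[k] y j := by
  classical
  obtain ⟨s, hs⟩ := Algebra.FiniteType.out (R := k) (A := R)
  obtain ⟨W, hWf, hsW, hW⟩ := exists_finite_subcomod (k := k) (A := A) (V := R) s.finite_toSet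
  haveI := hWf
  let b₀ := Module.Free.chooseBasis k W
  let ι := Module.Free.ChooseBasisIndex k W
  obtain ⟨μ, hμ, hμco, hμcu⟩ := exists_matCoeff_of_isSubcomod hW b₀
  let Φ : MvPolynomial ι k →ₐ[k] MvPolynomial ι k ⊗[k] A :=
    MvPolynomial.aeval fun j => ∑ i, MvPolynomial.X i ⊗ₜ[k] μ i j
  have hX : ∀ j, Φ (MvPolynomial.X j) = ∑ i, MvPolynomial.X i ⊗ₜ[k] μ i j := fun j => MvPolynomial.aeval_X _ j
  obtain ⟨c, hc, hcc⟩ := exists_comod_of_algHom Φ (Set.range (MvPolynomial.X (R := k) (σ := ι)))
    MvPolynomial.adjoin_range_X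
    (by
      rintro _ ⟨j, rfl⟩
      simp only [hX, map_sum, LinearMap.rTensor_tmul, AlgHom.toLinearMap_apply, LinearMap.lTensor_tmul, hμco,
        TensorProduct.sum_tmul, TensorProduct.tmul_sum, TensorProduct.assoc_tmul]
      exact Finset.sum_comm)
    (by
      rintro _ ⟨j, rfl⟩
      simp [hX, hμcu, TensorProduct.tmul_ite, Finset.sum_ite_eq'])
  let π : MvPolynomial ι k →ₐ[k] R := MvPolynomial.aeval fun j => (b₀ j : R)
  refine ⟨ι, inferInstance, c, hc, π, ?_, ?_, fun j => ⟨fun i => μ i j, hcc ▸ hX j⟩⟩
  · refine (AlgHom.range_eq_top π).1 (eq_top_iff.2 (hs.ge.trans (Algebra.adjoin_le fun r hr => ?_)))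
    have hle : W ≤ (π.range.toSubmodule : Submodule k R) := fun w hw => by
      have := congrArg Subtype.val (b₀.sum_repr ⟨w, hw⟩)
      simp only [AddSubmonoidClass.coe_finset_sum, SetLike.val_smul] at this
      rw [← this]
      exact Submodule.sum_mem _ fun j _ => Submodule.smul_mem _ _ ⟨MvPolynomial.X j, MvPolynomial.aeval_X _ j⟩
    exact hle (hsW hr)
  · have he : (GLin.coactAlgHom k A R).comp π = (Algebra.TensorProduct.map π (AlgHom.id k A)).comp Φ := by
      refine MvPolynomial.algHom_ext fun j => ?_
      simp only [AlgHom.comp_apply, hX, map_sum, Algebra.TensorProduct.map_tmul, π, MvPolynomial.aeval_X,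
        GLin.coactAlgHom_apply, AlgHom.id_apply]
      exact hμ j
    refine LinearMap.ext fun p => ?_
    show Comod.coact (k := k) (A := A) (π p) = π.toLinearMap.rTensor A (c.coact p)
    rw [hcc]
    exact AlgHom.congr_fun he p

section Product

variable {C₁ C₂ B B₂ : Type u} [CommRing C₁] [Algebra k C₁] [Comod k A C₁] [GLin.IsCoactAlg k A C₁]
  [CommRing C₂] [Algebra k C₂] [Comod k A C₂] [GLin.IsCoactAlg k A C₂]
  [CommRing B] [Algebra k B] [Comod k A B] [GLin.IsCoactAlg k A B]
  [CommRing B₂] [Algebra k B₂] [Comod k A B₂] [GLin.IsCoactAlg k A B₂]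

/-- A map which on products is a product of equivariant maps commutes with the coactions there. -/
theorem coact_map_mul (f : B →ₗ[k] B₂) (i : C₁ →ₗ[k] B) (j : C₂ →ₗ[k] B) (hi : Hoch.IsComodHom A i)
    (hj : Hoch.IsComodHom A j) (φ : C₁ →ₗ[k] B₂) (ψ : C₂ →ₗ[k] B₂) (hφ : Hoch.IsComodHom A φ)
    (hψ : Hoch.IsComodHom A ψ) (h : ∀ c p, f (i c * j p) = φ c * ψ p) (c : C₁) (p : C₂) :
    Comod.coact (k := k) (A := A) (f (i c * j p)) = f.rTensor A (Comod.coact (k := k) (A := A) (i c * j p)) := by
  rw [h, GLin.IsCoactAlg.coact_mul, GLin.IsCoactAlg.coact_mul]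
  rw [show Comod.coact (k := k) (A := A) (φ c) = φ.rTensor A (Comod.coact (k := k) (A := A) c) from LinearMap.congr_fun hφ c,
    show Comod.coact (k := k) (A := A) (ψ p) = ψ.rTensor A (Comod.coact (k := k) (A := A) p) from LinearMap.congr_fun hψ p,
    show Comod.coact (k := k) (A := A) (i c) = i.rTensor A (Comod.coact (k := k) (A := A) c) from LinearMap.congr_fun hi c,
    show Comod.coact (k := k) (A := A) (j p) = j.rTensor A (Comod.coact (k := k) (A := A) p) from LinearMap.congr_fun hj p]
  generalize Comod.coact (k := k) (A := A) c = z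
  generalize Comod.coact (k := k) (A := A) p = y
  induction z using TensorProduct.induction_on with
  | zero => simp
  | add u v hu hv => simp only [map_add, add_mul, hu, hv]
  | tmul a b =>
    induction y using TensorProduct.induction_on with
    | zero => simp
    | add u v hu hv => simp only [map_add, mul_add, hu, hv]
    | tmul a' b' => simp [h]

/-- The coaction of a product with an element of a stable span stays there. -/
theorem coact_mul_mem_range (W : Submodule k B) (i : C₁ →ₗ[k] B) (j : C₂ →ₗ[k] B) (hi : Hoch.IsComodHom A i)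
    (hj : Hoch.IsComodHom A j) {ι : Type u} [Fintype ι] (e : ι → C₂) (hW : ∀ (a : C₁) (m : ι), i a * j (e m) ∈ W)
    {p : C₂} (y : ι → A) (hp : Comod.coact (k := k) (A := A) p = ∑ m, e m ⊗ₜ[k] y m) (c : C₁) :
    Comod.coact (k := k) (A := A) (i c * j p) ∈ LinearMap.range (W.subtype.rTensor A) := by
  rw [GLin.IsCoactAlg.coact_mul,
    show Comod.coact (k := k) (A := A) (i c) = i.rTensor A (Comod.coact (k := k) (A := A) c) from LinearMap.congr_fun hi c,
    show Comod.coact (k := k) (A := A) (j p) = j.rTensor A (Comod.coact (k := k) (A := A) p) from LinearMap.congr_fun hj p,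
    hp, map_sum, Finset.mul_sum]
  refine sum_mem fun m _ => ?_
  generalize Comod.coact (k := k) (A := A) c = z
  induction z using TensorProduct.induction_on with
  | zero => simp
  | add a b ha hb => rw [map_add, add_mul]; exact add_mem ha hb
  | tmul a b => exact ⟨(⟨i a * j (e m), hW a m⟩ : W) ⊗ₜ[k] (b * y m), by simp⟩

/-- Combinations of elements spanning a stable subspace, with stable coefficients, form a stable subspace. -/
theorem isSubcomod_range_lin {ι : Type u} [Fintype ι] (e : ι → C₂) (i : C₁ →ₗ[k] B) (j : C₂ →ₗ[k] B)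
    (hi : Hoch.IsComodHom A i) (hj : Hoch.IsComodHom A j) (f : (ι → C₁) →ₗ[k] B)
    (hf : ∀ v, f v = ∑ l, i (v l) * j (e l))
    (hlin : ∀ l, ∃ y : ι → A, Comod.coact (k := k) (A := A) (e l) = ∑ m, e m ⊗ₜ[k] y m) :
    IsSubcomod (k := k) (A := A) (LinearMap.range f) := by
  classical
  rintro _ ⟨v, rfl⟩
  rw [hf, map_sum]
  refine sum_mem fun l _ => ?_
  obtain ⟨y, hy⟩ := hlin l
  refine coact_mul_mem_range (LinearMap.range f) i j hi hj e (fun a m => ⟨Pi.single m a, ?_⟩) y hy (v l)
  rw [hf, Finset.sum_eq_single m]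
  · rw [Pi.single_eq_same]
  · intro l _ hl
    rw [Pi.single_eq_of_ne hl, map_zero, zero_mul]
  · intro h
    exact absurd (Finset.mem_univ m) h

end Product

section Derivation

variable {Q : Type u} [CommRing Q] [Algebra k Q] [Comod k A Q] [GLin.IsCoactAlg k A Q]

/-- Averaging commutes with multiplication by functions. -/
theorem avg_coact_mul (α : A →ₗ[k] k) (a : Q) (y : Q ⊗[k] A) :
    TensorProduct.lift (LinearMap.mk₂ k (fun u b => actL (intForm α b) u)
      (fun u u' b => map_add _ u u') (fun c u b => map_smul _ c u)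
      (fun u b b' => by rw [map_add]; exact sliceR_add _ _ _)
      (fun c u b => by rw [map_smul]; exact sliceR_smul _ _ _)) (Comod.coact (k := k) (A := A) a * y) =
    a * TensorProduct.lift (LinearMap.mk₂ k (fun u b => actL (intForm α b) u)
      (fun u u' b => map_add _ u u') (fun c u b => map_smul _ c u)
      (fun u b b' => by rw [map_add]; exact sliceR_add _ _ _)
      (fun c u b => by rw [map_smul]; exact sliceR_smul _ _ _)) y := by
  induction y using TensorProduct.induction_on with
  | zero => simp
  | add x y hx hy => simp only [mul_add, map_add, hx, hy]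
  | tmul u b =>
    let S' : A →ₐ[k] A := HopfAlgebra.antipodeAlgHom k A
    let H : Q →ₐ[k] (Q ⊗[k] A) := GLin.coactAlgHom k A Q
    let Θ : Q ⊗[k] A →ₐ[k] Q ⊗[k] A :=
      Algebra.TensorProduct.lift ((Algebra.TensorProduct.map (AlgHom.id k Q) S').comp H)
        Algebra.TensorProduct.includeRight fun _ _ => Commute.all _ _
    have hact : ∀ (v : Q) (d : A), actL (intForm α d) v = sliceR α (Θ (v ⊗ₜ[k] d)) := by
      intro v d
      show sliceR (intForm α d) (Comod.coact (k := k) (A := A) v) = sliceR α (Algebra.TensorProduct.lift _ _ _ _)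
      rw [Algebra.TensorProduct.lift_tmul]
      show _ = sliceR α (Algebra.TensorProduct.map (AlgHom.id k Q) S' (Comod.coact (k := k) (A := A) v) *
        ((1 : Q) ⊗ₜ[k] d))
      generalize Comod.coact (k := k) (A := A) v = z
      induction z using TensorProduct.induction_on with
      | zero => simp
      | add x y hx hy => simp only [map_add, add_mul, hx, hy]
      | tmul p q => simp [S', intForm_apply]
    have hlift : ∀ z : Q ⊗[k] A, TensorProduct.lift (LinearMap.mk₂ k (fun u b => actL (intForm α b) u)
      (fun u u' b => map_add _ u u') (fun c u b => map_smul _ c u)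
      (fun u b b' => by rw [map_add]; exact sliceR_add _ _ _)
      (fun c u b => by rw [map_smul]; exact sliceR_smul _ _ _)) z = sliceR α (Θ z) := by
      intro z
      induction z using TensorProduct.induction_on with
      | zero => simp
      | add x y hx hy => simp only [map_add, hx, hy]
      | tmul p q => exact hact p q
    have hΘ : Θ (Comod.coact (k := k) (A := A) a) = a ⊗ₜ[k] (1 : A) := by
      have hco := LinearMap.congr_fun (Comod.coassoc (k := k) (A := A) (V := Q)) a
      have hcu := LinearMap.congr_fun (Comod.counit_comp (k := k) (A := A) (V := Q)) a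
      simp only [LinearMap.coe_comp, Function.comp_apply, LinearEquiv.coe_coe] at hco hcu
      let L : A ⊗[k] A →ₗ[k] A := LinearMap.mul' k A ∘ₗ (HopfAlgebra.antipode k).rTensor A
      have h1 : ∀ z : Q ⊗[k] A, Θ z =
          L.lTensor Q (TensorProduct.assoc k Q A A ((Comod.coact (k := k) (A := A)).rTensor A z)) := by
        intro z
        induction z using TensorProduct.induction_on with
        | zero => simp
        | add x y hx hy => simp only [map_add, hx, hy]
        | tmul p q =>
          show Algebra.TensorProduct.lift _ _ _ _ = _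
          rw [Algebra.TensorProduct.lift_tmul, LinearMap.rTensor_tmul]
          show Algebra.TensorProduct.map (AlgHom.id k Q) S' (Comod.coact (k := k) (A := A) p) *
            ((1 : Q) ⊗ₜ[k] q) = _
          generalize Comod.coact (k := k) (A := A) p = w
          induction w using TensorProduct.induction_on with
          | zero => simp
          | add x y hx hy => simp only [map_add, add_mul, TensorProduct.add_tmul, hx, hy]
          | tmul i j => simp [S', L]
      rw [h1, hco, ← LinearMap.lTensor_comp_apply,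
        show L ∘ₗ CoalgebraStruct.comul (R := k) (A := A) = Algebra.linearMap k A ∘ₗ CoalgebraStruct.counit from
          LinearMap.ext fun x => HopfAlgebra.mul_antipode_rTensor_comul_apply x,
        LinearMap.lTensor_comp_apply, hcu]
      simp
    rw [hlift, hlift, map_mul, hΘ]
    generalize Θ (u ⊗ₜ[k] b) = w
    induction w using TensorProduct.induction_on with
    | zero => simp
    | add x y hx hy => simp only [map_add, mul_add, hx, hy]
    | tmul p q => simp

/-- The average of a derivation is a derivation. -/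
theorem average_leibniz (α : A →ₗ[k] k) (D : Q →ₗ[k] Q) (hD : ∀ a b, D (a * b) = a * D b + b * D a) (a b : Q) :
    average α D (a * b) = a * average α D b + b * average α D a := by
  have h : ∀ y z : Q ⊗[k] A, D.rTensor A (y * z) = y * D.rTensor A z + z * D.rTensor A y := by
    intro y z
    induction y using TensorProduct.induction_on with
    | zero => simp
    | add x y hx hy => simp only [add_mul, mul_add, map_add, hx, hy]; abel
    | tmul p q =>
      induction z using TensorProduct.induction_on with
      | zero => simp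
      | add x y hx hy => simp only [add_mul, mul_add, map_add, hx, hy]; abel
      | tmul i j => simp [hD, TensorProduct.add_tmul, mul_comm j q]
  simp only [average, LinearMap.coe_comp, Function.comp_apply, GLin.IsCoactAlg.coact_mul, h, map_add]
  rw [avg_coact_mul, avg_coact_mul]

end Derivation

end

end Groth.Agent.H20Slice
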