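import Groth.Agent.H20Slice.Etale
import Groth.Agent.H20Luna.Completion

/-!
The étale slice of a representation along a closed orbit.
-/

set_option autoImplicit false
set_option linter.style.haveILetI false
set_option linter.unusedSectionVars false
set_option backward.isDefEq.respectTransparency false
set_option maxHeartbeats 800000
set_option synthInstance.maxHeartbeats 100000

universe u

open TensorProduct HopfRep MvPolynomial
open Groth.Agent.H20Comod Groth.Agent.H20Comod.OrbitPrimes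

namespace Groth.Agent.H20Slice

noncomputable section

variable {k : Type u} [Field k] [IsAlgClosed k] {A : Type u} [CommRing A] [HopfAlgebra k A] [Algebra.FiniteType k A]

/-- A comodule morphism of algebras commutes with orbit maps. -/
theorem orbitHom_comp {R S : Type u} [CommRing R] [Algebra k R] [Comod k A R] [GLin.IsCoactAlg k A R] [CommRing S]
    [Algebra k S] [Comod k A S] [GLin.IsCoactAlg k A S] (φ : S →ₐ[k] R) (hφ : Hoch.IsComodHom A φ.toLinearMap)
    (z : R →ₐ[k] k) : (GLin.orbitHom k A z).comp φ = GLin.orbitHom k A (z.comp φ) :=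
  orbitHom_natural φ (fun s => LinearMap.congr_fun hφ s) z

theorem actPt_comp {R S : Type u} [CommRing R] [Algebra k R] [Comod k A R] [GLin.IsCoactAlg k A R] [CommRing S]
    [Algebra k S] [Comod k A S] [GLin.IsCoactAlg k A S] (φ : S →ₐ[k] R) (hφ : Hoch.IsComodHom A φ.toLinearMap)
    (g : A →ₐ[k] k) (z : R →ₐ[k] k) : (GLin.actPt k g z).comp φ = GLin.actPt k g (z.comp φ) := by
  show (g.comp (GLin.orbitHom k A z)).comp φ = g.comp (GLin.orbitHom k A (z.comp φ))
  rw [AlgHom.comp_assoc, orbitHom_comp φ hφ z]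

/-- The slice bundle of a closed orbit, abstractly. -/
theorem exists_slice_aux {P C Q : Type u} [CommRing P] [Algebra k P] [Algebra.FiniteType k P] [Comod k A P]
    [GLin.IsCoactAlg k A P] [CommRing C] [Algebra k C] [Comod k A C] [GLin.IsCoactAlg k A C]
    [Algebra.FormallySmooth k C] [CommRing Q] [Algebra k Q] [Comod k A Q] [GLin.IsCoactAlg k A Q]
    {α : A →ₗ[k] k} (hα : IsIntegral α) (h1 : α 1 = 1)
    (q : P →ₐ[k] C) (r : P →ₐ[k] Q) (π : Q →ₐ[k] C) (hqs : Function.Surjective q) (hrs : Function.Surjective r)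
    (hπr : ∀ p, π (r p) = q p) (hr0 : ∀ p, r p = 0 ↔ p ∈ RingHom.ker q ^ 2)
    (hq : Hoch.IsComodHom A q.toLinearMap) (hr : Hoch.IsComodHom A r.toLinearMap)
    (x : P →ₐ[k] k) (hx : GLin.IsClosedOrbit k A x) (hI : RingHom.ker q = RingHom.ker (GLin.orbitHom k A x))
    (xC : C →ₐ[k] k) (hxC : ∀ p, xC (q p) = x p)
    {ι : Type u} [Fintype ι] [DecidableEq ι] (Xv : ι → P) (hgen : Algebra.adjoin k (Set.range Xv) = ⊤)
    (pd : ι → P →ₗ[k] P) (hpd : ∀ l a b, pd l (a * b) = a * pd l b + b * pd l a)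
    (hXv : ∀ j l, pd l (Xv j) = if j = l then 1 else 0)
    (htay : ∀ p, p - algebraMap k P (x p) - ∑ l, algebraMap k P (x (pd l p)) *
      (Xv l - algebraMap k P (x (Xv l))) ∈ RingHom.ker x ^ 2)
    (hchain : ∀ D : P →+ Q, (∀ a b, D (a * b) = r a * D b + r b * D a) → (∀ c : k, D (algebraMap k P c) = 0) →
      ∀ p, D p = ∑ l, r (pd l p) * D (Xv l))
    (hlin : ∀ l, ∃ y : ι → A, Comod.coact (k := k) (A := A) (Xv l) = ∑ j, (Xv j) ⊗ₜ[k] y j) :
    ∃ (W : Type u) (_ : CommRing W) (_ : Algebra k W) (_ : Algebra.FiniteType k W) (_ : Comod k A W)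
      (_ : GLin.IsCoactAlg k A W) (ρ j : P →ₐ[k] W) (w : W →ₐ[k] k),
      Hoch.IsComodHom A ρ.toLinearMap ∧ Hoch.IsComodHom A j.toLinearMap ∧
      (∀ f ∈ RingHom.ker (GLin.orbitHom k A x), j f = 0) ∧ w.comp ρ = x ∧ w.comp j = x ∧
      GLin.IsClosedOrbit k A w ∧ (∀ g : A →ₐ[k] k, GLin.actPt k g x = x → GLin.actPt k g w = w) ∧
      ∃ h : (RingHom.ker w).IsPrime, letI := ρ.toRingHom.toAlgebra; haveI := h;
        Algebra.IsEtaleAt P (RingHom.ker w) := by
  obtain ⟨cT, hT, hL, hR⟩ := exists_comod_tensor (k := k) (A := A) (C := C) (P := P)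
  letI := cT
  haveI := hT
  obtain ⟨i, hi, hsq, hE⟩ := exists_equations hα h1 q r π hqs hrs hπr hr0 hq hr (LinearMap.ext hL)
    (LinearMap.ext hR) Xv pd hpd hchain hlin
  set E := Ideal.span (Set.range (eqs q pd Xv i)) with hEdef
  obtain ⟨cW, hW, hΘ⟩ := exists_comod_quotient E hE
  letI := cW
  haveI := hW
  let Θ : C ⊗[k] P →ₐ[k] _ := Ideal.Quotient.mkₐ k E
  let ρ := Θ.comp Algebra.TensorProduct.includeRight
  let j := (Θ.comp Algebra.TensorProduct.includeLeft).comp q
  let wT : C ⊗[k] P →ₐ[k] k :=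
    Algebra.TensorProduct.lift xC x fun _ _ => Commute.all _ _
  have hwT : ∀ c p, wT (c ⊗ₜ[k] p) = xC c * x p := fun c p => Algebra.TensorProduct.lift_tmul _ _ _ c p
  have hwE : ∀ t ∈ E, wT t = 0 := by
    suffices E ≤ RingHom.ker wT from fun t ht => this ht
    refine Ideal.span_le.2 ?_
    rintro _ ⟨l, rfl⟩
    rw [SetLike.mem_coe, RingHom.mem_ker, eqs, map_sum]
    refine Finset.sum_eq_zero fun l' _ => ?_
    rw [map_mul, map_sub, hwT, hwT, hwT, hxC, map_one, map_one]
    ring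
  let w := Ideal.Quotient.liftₐ E wT hwE
  have hw : ∀ c p, w (Θ (c ⊗ₜ[k] p)) = xC c * x p := fun c p => hwT c p
  have hρ : Hoch.IsComodHom A ρ.toLinearMap := by
    refine LinearMap.ext fun p => ?_
    show Comod.coact (k := k) (A := A) (Θ.toLinearMap ((1 : C) ⊗ₜ[k] p)) =
      ρ.toLinearMap.rTensor A (Comod.coact (k := k) (A := A) p)
    rw [show Comod.coact (k := k) (A := A) (Θ.toLinearMap ((1 : C) ⊗ₜ[k] p)) =
        Θ.toLinearMap.rTensor A (Comod.coact (k := k) (A := A) ((1 : C) ⊗ₜ[k] p)) from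
          LinearMap.congr_fun hΘ _, hR, ← LinearMap.rTensor_comp_apply]
    rfl
  have hj : Hoch.IsComodHom A j.toLinearMap := by
    refine LinearMap.ext fun p => ?_
    show Comod.coact (k := k) (A := A) (Θ.toLinearMap (q p ⊗ₜ[k] (1 : P))) =
      j.toLinearMap.rTensor A (Comod.coact (k := k) (A := A) p)
    rw [show Comod.coact (k := k) (A := A) (Θ.toLinearMap (q p ⊗ₜ[k] (1 : P))) =
        Θ.toLinearMap.rTensor A (Comod.coact (k := k) (A := A) (q p ⊗ₜ[k] (1 : P))) from
          LinearMap.congr_fun hΘ _, hL,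
      show Comod.coact (k := k) (A := A) (q p) = q.toLinearMap.rTensor A (Comod.coact (k := k) (A := A) p) from
        LinearMap.congr_fun hq p, ← LinearMap.rTensor_comp_apply, ← LinearMap.rTensor_comp_apply]
    rfl
  have hρa : ∀ p, ρ p = Θ ((1 : C) ⊗ₜ[k] p) := fun p => rfl
  have hja : ∀ p, j p = Θ (q p ⊗ₜ[k] (1 : P)) := fun p => rfl
  have hwρ : w.comp ρ = x := AlgHom.ext fun p => by
    rw [AlgHom.comp_apply, hρa, hw, map_one, one_mul]
  have hwj : w.comp j = x := AlgHom.ext fun p => by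
    rw [AlgHom.comp_apply, hja, hw, map_one, mul_one, hxC]
  have hext : ∀ z z' : _ →ₐ[k] k, z.comp ρ = z'.comp ρ → z.comp j = z'.comp j → z = z' := fun z z' h₁ h₂ => by
    refine (AlgHom.cancel_right (Ideal.Quotient.mkₐ_surjective k E)).1 ?_
    refine Algebra.TensorProduct.ext ?_ ?_
    · exact (AlgHom.cancel_right hqs).1 h₂
    · exact AlgHom.ext fun p => AlgHom.congr_fun h₁ p
  haveI hwp : (RingHom.ker w).IsPrime := RingHom.ker_isPrime w
  haveI : Algebra.FiniteType k (C ⊗[k] P) :=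
    Algebra.FiniteType.trans (Algebra.FiniteType.of_surjective q hqs) (inferInstance : Algebra.FiniteType C _)
  haveI hWft : Algebra.FiniteType k ((C ⊗[k] P) ⧸ E) :=
    Algebra.FiniteType.of_surjective _ (Ideal.Quotient.mkₐ_surjective k E)
  refine ⟨(C ⊗[k] P) ⧸ E, inferInstance, inferInstance, hWft, cW, hW, ρ, j, w, hρ, hj, fun f hf => ?_, hwρ, hwj, ?_, ?_, hwp, ?_⟩
  · show Θ (q f ⊗ₜ[k] 1) = 0
    rw [show q f = 0 from (SetLike.ext_iff.1 hI f).2 hf, TensorProduct.zero_tmul, map_zero]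
  · refine isClosedOrbit_of_forall w fun z hz => ?_
    obtain ⟨g, hg⟩ := exists_actPt_eq_of_isClosedOrbit hx (z := z.comp j) fun f hf => by
      show z (j f) = 0
      rw [show j f = 0 by
        show Θ (q f ⊗ₜ[k] 1) = 0
        rw [show q f = 0 from (SetLike.ext_iff.1 hI f).2 hf, TensorProduct.zero_tmul, map_zero], map_zero]
    have hρj : z.comp ρ = z.comp j := AlgHom.ext fun p => sub_eq_zero.1 <| by
      show z (ρ p) - z (j p) = 0
      rw [← map_sub]
      refine hz ?_
      rw [RingHom.mem_ker, map_sub, ← AlgHom.comp_apply, ← AlgHom.comp_apply, orbitHom_comp ρ hρ,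
        orbitHom_comp j hj, hwρ, hwj, sub_self]
    exact ⟨g, hext _ _ (by rw [actPt_comp ρ hρ, hwρ, hρj]; exact hg) (by rw [actPt_comp j hj, hwj]; exact hg)⟩
  · intro g hg
    exact hext _ _ (by rw [actPt_comp ρ hρ, hwρ, hg]) (by rw [actPt_comp j hj, hwj, hg])
  · letI := ρ.toRingHom.toAlgebra
    haveI : IsScalarTower k (P) _ := IsScalarTower.of_algebraMap_eq fun c => (ρ.commutes c).symm
    exact isEtaleAt_slice q hqs x xC hxC Xv hgen pd hpd hXv htay i hi hsq Θ (Ideal.Quotient.mkₐ_surjective k E)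
      Ideal.mk_ker (fun p => rfl) w hw

variable [CharZero k] [IsDomain A] {ι : Type u} [Fintype ι] [Comod k A (MvPolynomial ι k)]
  [GLin.IsCoactAlg k A (MvPolynomial ι k)]

/-- **Étale slices**: along a closed orbit a representation receives an equivariant map, étale at the base point and
injective on the orbit, from a scheme which retracts equivariantly onto the orbit. -/
theorem exists_slice {α : A →ₗ[k] k} (hα : IsIntegral α) (h1 : α 1 = 1)
    (hlin : ∀ l : ι, ∃ y : ι → A,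
      Comod.coact (k := k) (A := A) (X l : MvPolynomial ι k) = ∑ j, (X j) ⊗ₜ[k] y j)
    (x : MvPolynomial ι k →ₐ[k] k) (hx : GLin.IsClosedOrbit k A x) :
    ∃ (W : Type u) (_ : CommRing W) (_ : Algebra k W) (_ : Algebra.FiniteType k W) (_ : Comod k A W)
      (_ : GLin.IsCoactAlg k A W) (ρ j : MvPolynomial ι k →ₐ[k] W) (w : W →ₐ[k] k),
      Hoch.IsComodHom A ρ.toLinearMap ∧ Hoch.IsComodHom A j.toLinearMap ∧
      (∀ f ∈ RingHom.ker (GLin.orbitHom k A x), j f = 0) ∧ w.comp ρ = x ∧ w.comp j = x ∧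
      GLin.IsClosedOrbit k A w ∧ (∀ g : A →ₐ[k] k, GLin.actPt k g x = x → GLin.actPt k g w = w) ∧
      ∃ h : (RingHom.ker w).IsPrime, letI := ρ.toRingHom.toAlgebra; haveI := h;
        Algebra.IsEtaleAt (MvPolynomial ι k) (RingHom.ker w) := by
  classical
  set I := RingHom.ker (GLin.orbitHom k A x) with hIdef
  have hI : IsSubcomod (k := k) (A := A) (I.restrictScalars k) := isSubcomod_ker_orbitHom x
  haveI : I.IsPrime := RingHom.ker_isPrime _
  obtain ⟨cC, hC, hq⟩ := exists_comod_quotient I hI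
  letI := cC
  haveI := hC
  obtain ⟨cQ, hQ, hr⟩ := exists_comod_quotient (I ^ 2) (H20Luna.isSubcomod_pow hI 2)
  letI := cQ
  haveI := hQ
  let q : MvPolynomial ι k →ₐ[k] MvPolynomial ι k ⧸ I := Ideal.Quotient.mkₐ k I
  have hqk : RingHom.ker q = I := Ideal.mk_ker
  let xC : (MvPolynomial ι k ⧸ I) →ₐ[k] k := Ideal.Quotient.liftₐ I x fun f hf => ker_orbitHom_le_ker x hf
  have hxC : ∀ p, xC (q p) = x p := fun p => rfl
  have horb : (GLin.orbitHom k A xC).comp q = GLin.orbitHom k A x := orbitHom_comp q hq xC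
  have hkC : RingHom.ker (GLin.orbitHom k A xC) = ⊥ := eq_bot_iff.2 fun c hc => by
    obtain ⟨p, rfl⟩ := Ideal.Quotient.mkₐ_surjective k I c
    refine Ideal.mem_bot.2 (Ideal.Quotient.eq_zero_iff_mem.2 ?_)
    rw [hIdef, RingHom.mem_ker, ← horb]
    exact hc
  have hxCc : GLin.IsClosedOrbit k A xC := isClosedOrbit_of_forall xC fun z hz => by
    obtain ⟨g, hg⟩ := exists_actPt_eq_of_isClosedOrbit hx (z := z.comp q) fun f hf => by
      show z (q f) = 0
      refine hz ?_
      rw [RingHom.mem_ker, ← AlgHom.comp_apply, horb]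
      exact hf
    exact ⟨g, AlgHom.cancel_right (Ideal.Quotient.mkₐ_surjective k I) |>.1
      (hg.trans (actPt_comp q hq g xC).symm)⟩
  haveI := formallySmooth_of_isClosedOrbit xC hxCc hkC
  let pd : ι → MvPolynomial ι k →ₗ[k] MvPolynomial ι k := fun l => (pderiv l).toLinearMap
  refine exists_slice_aux hα h1 q (Ideal.Quotient.mkₐ k (I ^ 2))
    (Ideal.Quotient.factorₐ k (Ideal.pow_le_self (I := I) two_ne_zero)) (Ideal.Quotient.mkₐ_surjective k I)
    (Ideal.Quotient.mkₐ_surjective k (I ^ 2)) (fun p => rfl)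
    (fun p => by rw [hqk]; exact Ideal.Quotient.eq_zero_iff_mem) hq hr x hx hqk xC hxC (fun l => X l)
    MvPolynomial.adjoin_range_X pd (fun l a b => (pderiv l).leibniz a b) (fun a b => ?_)
    (fun p => sub_sum_pderiv_mem_sq x p) (fun D hD hC p => derivation_eq_sum _ D hD hC p) hlin
  show pderiv b (X a) = _
  rw [pderiv_X, Pi.single_apply]

end

end Groth.Agent.H20Slice
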