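import Groth.Agent.H20Slice.Retraction
import Groth.Agent.H20Comod.Flag

/-!
Equivariant linear equations of a normal slice bundle along a closed orbit in a representation.
-/

set_option autoImplicit false
set_option linter.style.haveILetI false
set_option linter.unusedSectionVars false
set_option maxHeartbeats 800000
set_option synthInstance.maxHeartbeats 100000

universe u

open TensorProduct HopfRep
open Groth.Agent.H20Comod

namespace Groth.Agent.H20Slice

noncomputable section

variable {k : Type u} [Field k] {A : Type u} [CommRing A] [HopfAlgebra k A]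
  {P C Q : Type u} [CommRing P] [Algebra k P] [CommRing C] [Algebra k C] [CommRing Q] [Algebra k Q]
  {ι : Type u} [Fintype ι]

/-- The multiplication `C ⊗ P → C`. -/
def diagMap (q : P →ₐ[k] C) : C ⊗[k] P →ₐ[k] C :=
  Algebra.TensorProduct.lift (AlgHom.id k C) q fun _ _ => Commute.all _ _

theorem diagMap_tmul (q : P →ₐ[k] C) (c : C) (p : P) : diagMap q (c ⊗ₜ[k] p) = c * q p :=
  Algebra.TensorProduct.lift_tmul _ _ _ c p

/-- The coefficients of the equations. -/
def eqCoeff [DecidableEq ι] (q : P →ₐ[k] C) (pd : ι → P →ₗ[k] P) (i : ι → P) (j l : ι) : C :=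
  (if j = l then 1 else 0) - q (pd l (i j))

/-- The equations of the slice bundle. -/
def eqs [DecidableEq ι] (q : P →ₐ[k] C) (pd : ι → P →ₗ[k] P) (Xv : ι → P) (i : ι → P) (j : ι) : C ⊗[k] P :=
  ∑ l, (eqCoeff q pd i j l ⊗ₜ[k] (1 : P)) * ((1 : C) ⊗ₜ[k] Xv l - q (Xv l) ⊗ₜ[k] (1 : P))

/-- Partial derivatives of a product of two functions vanishing along the orbit vanish there. -/
theorem apply_pd_eq_zero (q : P →ₐ[k] C) (pd : P →ₗ[k] P) (hpd : ∀ a b, pd (a * b) = a * pd b + b * pd a) {p : P}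
    (hp : p ∈ RingHom.ker q ^ 2) : q (pd p) = 0 := by
  rw [pow_two] at hp
  refine Submodule.mul_induction_on hp (fun a ha b hb => ?_) fun a b ha hb => ?_
  · rw [hpd, map_add, map_mul, map_mul, show q a = 0 from ha, show q b = 0 from hb, zero_mul, zero_mul, add_zero]
  · rw [map_add, map_add, ha, hb, add_zero]

/-- Combinations of coordinate functions with coefficients on the orbit. -/
def linEmb (Xv : ι → P) : (ι → C) →ₗ[k] C ⊗[k] P :=
  ∑ l, ((TensorProduct.mk k C P).flip (Xv l)) ∘ₗ LinearMap.proj l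

theorem linEmb_apply (Xv : ι → P) (v : ι → C) : linEmb (k := k) Xv v = ∑ l, v l ⊗ₜ[k] Xv l := by
  simp [linEmb]

/-- The displacement from the diagonal. -/
def displ (q : P →ₐ[k] C) : C ⊗[k] P →ₗ[k] C ⊗[k] P :=
  LinearMap.id -
    (Algebra.TensorProduct.includeLeft : C →ₐ[k] C ⊗[k] P).toLinearMap ∘ₗ (diagMap q).toLinearMap

theorem displ_linEmb (q : P →ₐ[k] C) (Xv : ι → P) (v : ι → C) : displ q (linEmb Xv v) =
    ∑ l, (v l ⊗ₜ[k] (1 : P)) * ((1 : C) ⊗ₜ[k] Xv l - q (Xv l) ⊗ₜ[k] (1 : P)) := by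
  rw [linEmb_apply, map_sum]
  refine Finset.sum_congr rfl fun l _ => ?_
  have h1 : displ q (v l ⊗ₜ[k] Xv l) = v l ⊗ₜ[k] Xv l - (v l * q (Xv l)) ⊗ₜ[k] (1 : P) := by
    simp only [displ, LinearMap.sub_apply, LinearMap.id_coe, id_eq, LinearMap.coe_comp, Function.comp_apply,
      AlgHom.toLinearMap_apply, diagMap_tmul, Algebra.TensorProduct.includeLeft_apply]
  refine h1.trans ?_
  rw [mul_sub, Algebra.TensorProduct.tmul_mul_tmul, Algebra.TensorProduct.tmul_mul_tmul, mul_one, one_mul, mul_one]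

attribute [local irreducible] linEmb

/-- The functions linear in the displacement which are killed by an equivariant projection form a stable
generating set. -/
theorem isSubcomod_span_displ [Comod k A P] [GLin.IsCoactAlg k A P] [Comod k A C] [GLin.IsCoactAlg k A C]
    [Comod k A Q] [GLin.IsCoactAlg k A Q] [Comod k A (C ⊗[k] P)] [GLin.IsCoactAlg k A (C ⊗[k] P)]
    (q : P →ₐ[k] C) (hq : Hoch.IsComodHom A q.toLinearMap)
    (hL : Hoch.IsComodHom A (Algebra.TensorProduct.includeLeft : C →ₐ[k] C ⊗[k] P).toLinearMap)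
    (hR : Hoch.IsComodHom A (Algebra.TensorProduct.includeRight : P →ₐ[k] C ⊗[k] P).toLinearMap)
    (σ : C →ₗ[k] Q) (hσH : Hoch.IsComodHom A σ) (Dp : P →ₗ[k] Q) (hDH : Hoch.IsComodHom A Dp) (Xv : ι → P)
    (hlin : ∀ l, ∃ y : ι → A, Comod.coact (k := k) (A := A) (Xv l) = ∑ j, (Xv j) ⊗ₜ[k] y j) :
    IsSubcomod (k := k) (A := A) ((Ideal.span (((LinearMap.range (linEmb (C := C) Xv) ⊓
      LinearMap.ker (LinearMap.mul' k Q ∘ₗ TensorProduct.map σ Dp)).map (displ q) :
        Submodule k (C ⊗[k] P)) : Set (C ⊗[k] P))).restrictScalars k) := by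
  let iL : C →ₐ[k] C ⊗[k] P := Algebra.TensorProduct.includeLeft
  let iR : P →ₐ[k] C ⊗[k] P := Algebra.TensorProduct.includeRight
  let Φ : C ⊗[k] P →ₗ[k] Q := LinearMap.mul' k _ ∘ₗ TensorProduct.map σ Dp
  have hΦ : ∀ c p, Φ (c ⊗ₜ[k] p) = σ c * Dp p := fun c p => by simp [Φ]
  have hiLR : ∀ c p, c ⊗ₜ[k] p = iL.toLinearMap c * iR.toLinearMap p := fun c p => by simp [iL, iR]
  have hΦe : Hoch.IsComodHom A Φ := by
    refine LinearMap.ext fun t => ?_
    induction t using TensorProduct.induction_on with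
    | zero => simp
    | add u v hu hv => rw [map_add, map_add, hu, hv]
    | tmul c p =>
      rw [hiLR]
      exact coact_map_mul Φ iL.toLinearMap iR.toLinearMap hL hR σ Dp hσH hDH (fun c p => by rw [← hiLR, hΦ]) c p
  have hμe : Hoch.IsComodHom A (diagMap q).toLinearMap := by
    refine LinearMap.ext fun t => ?_
    induction t using TensorProduct.induction_on with
    | zero => simp
    | add u v hu hv => rw [map_add, map_add, hu, hv]
    | tmul c p =>
      rw [hiLR]
      exact coact_map_mul (diagMap q).toLinearMap iL.toLinearMap iR.toLinearMap hL hR LinearMap.id q.toLinearMap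
        (LinearMap.ext fun c => by simp) hq (fun c p => by rw [← hiLR]; exact diagMap_tmul q c p) c p
  have hlinEmb : ∀ v : ι → C, linEmb (k := k) Xv v = ∑ l, iL.toLinearMap (v l) * iR.toLinearMap (Xv l) := fun v =>
    (linEmb_apply Xv v).trans (Finset.sum_congr rfl fun l _ => hiLR _ _)
  have hL0 := isSubcomod_range_lin Xv iL.toLinearMap iR.toLinearMap hL hR (linEmb (C := C) Xv) hlinEmb hlin
  have hdispl : Hoch.IsComodHom A (displ q) := by
    refine (isComodHom_iff_forall_actL _).2 fun φ v => ?_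
    show _ - iL.toLinearMap ((diagMap q).toLinearMap _) = _
    rw [actL_natural _ hμe, actL_natural _ hL, LinearMap.id_apply]
    exact (map_sub (actL φ) _ _).symm
  exact isSubcomod_span _ (isSubcomod_map hdispl (isSubcomod_inf hL0 (isSubcomod_ker hΦe)))

/-- The equations generate the stable ideal. -/
theorem span_eqs_eq [DecidableEq ι] (q : P →ₐ[k] C) (r : P →ₐ[k] Q) (hqs : Function.Surjective q)
    (hr0 : ∀ p, r p = 0 ↔ p ∈ RingHom.ker q ^ 2) (σ : C →ₗ[k] Q) (Dp : P →ₗ[k] Q) (Xv : ι → P)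
    (pd : ι → P →ₗ[k] P) (hpd : ∀ l a b, pd l (a * b) = a * pd l b + b * pd l a) (i : ι → P) (hiI : ∀ j, q (i j) = 0)
    (hi : ∀ l, Dp (Xv l) = r (i l)) (hσi : ∀ p l, σ (q p) * r (i l) = r p * r (i l))
    (hsq : ∀ f ∈ RingHom.ker q, f - ∑ l, pd l f * i l ∈ RingHom.ker q ^ 2) :
    Ideal.span (Set.range (eqs q pd Xv i)) = Ideal.span (((LinearMap.range (linEmb (C := C) Xv) ⊓
      LinearMap.ker (LinearMap.mul' k Q ∘ₗ TensorProduct.map σ Dp)).map (displ q) :
        Submodule k (C ⊗[k] P)) : Set (C ⊗[k] P)) := by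
  have hΦv : ∀ s : ι → P, (LinearMap.mul' k Q ∘ₗ TensorProduct.map σ Dp) (linEmb Xv fun l => q (s l)) =
      r (∑ l, s l * i l) := fun s => by
    rw [linEmb_apply, map_sum, map_sum]
    refine Finset.sum_congr rfl fun l _ => ?_
    rw [LinearMap.comp_apply, TensorProduct.map_tmul, LinearMap.mul'_apply, hi, hσi, map_mul]
  refine le_antisymm (Ideal.span_le.2 ?_) (Ideal.span_le.2 ?_)
  · rintro _ ⟨j, rfl⟩
    refine Ideal.subset_span ⟨linEmb Xv (fun l => eqCoeff q pd i j l), ⟨⟨_, rfl⟩, ?_⟩, displ_linEmb q Xv _⟩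
    rw [SetLike.mem_coe, LinearMap.mem_ker]
    rw [show (fun l => eqCoeff q pd i j l) = fun l => q ((if j = l then 1 else 0) - pd l (i j)) by
      funext l; simp only [eqCoeff, map_sub, apply_ite q, map_one, map_zero]]
    rw [hΦv, hr0]
    simpa [sub_mul, ite_mul, Finset.sum_sub_distrib] using hsq _ (hiI j)
  · rintro _ ⟨_, ⟨⟨v, rfl⟩, hv⟩, rfl⟩
    choose s hs using fun l => hqs (v l)
    obtain rfl : v = fun l => q (s l) := funext fun l => (hs l).symm
    replace hv : (LinearMap.mul' k Q ∘ₗ TensorProduct.map σ Dp) (linEmb Xv fun l => q (s l)) = 0 := hv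
    rw [hΦv, hr0] at hv
    have hz : ∀ l, ∑ j, q (s j) * q (pd l (i j)) = 0 := fun l => by
      have := apply_pd_eq_zero q (pd l) (hpd l) hv
      simpa [map_sum, hpd, Finset.sum_add_distrib, hiI] using this
    have hsum : displ q (linEmb Xv fun l => q (s l)) = ∑ j, (q (s j) ⊗ₜ[k] (1 : P)) * eqs q pd Xv i j := by
      rw [displ_linEmb]
      simp only [eqs, Finset.mul_sum]
      rw [Finset.sum_comm]
      refine Finset.sum_congr rfl fun l _ => ?_
      simp only [← mul_assoc, ← Finset.sum_mul, Algebra.TensorProduct.tmul_mul_tmul, one_mul, ← TensorProduct.sum_tmul]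
      congr 2
      simp only [eqCoeff, mul_sub, Finset.sum_sub_distrib, hz, sub_zero, mul_ite, mul_one, mul_zero,
        Finset.sum_ite_eq', Finset.mem_univ, if_true]
    show displ q _ ∈ Ideal.span _
    rw [hsum]
    exact Ideal.sum_mem _ fun j _ => Ideal.mul_mem_left _ _ (Ideal.subset_span ⟨j, rfl⟩)


/-- The slice equations generate a stable ideal, and the two facts needed for étaleness. -/
theorem exists_equations [DecidableEq ι] {α : A →ₗ[k] k} (hα : IsIntegral α) (h1 : α 1 = 1)
    [Algebra.FormallySmooth k C] [Comod k A P] [GLin.IsCoactAlg k A P] [Comod k A C] [GLin.IsCoactAlg k A C]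
    [Comod k A Q] [GLin.IsCoactAlg k A Q] [Comod k A (C ⊗[k] P)] [GLin.IsCoactAlg k A (C ⊗[k] P)]
    (q : P →ₐ[k] C) (r : P →ₐ[k] Q) (π : Q →ₐ[k] C) (hqs : Function.Surjective q) (hrs : Function.Surjective r)
    (hπr : ∀ p, π (r p) = q p) (hr0 : ∀ p, r p = 0 ↔ p ∈ RingHom.ker q ^ 2)
    (hq : Hoch.IsComodHom A q.toLinearMap) (hr : Hoch.IsComodHom A r.toLinearMap)
    (hL : Hoch.IsComodHom A (Algebra.TensorProduct.includeLeft : C →ₐ[k] C ⊗[k] P).toLinearMap)
    (hR : Hoch.IsComodHom A (Algebra.TensorProduct.includeRight : P →ₐ[k] C ⊗[k] P).toLinearMap)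
    (Xv : ι → P) (pd : ι → P →ₗ[k] P) (hpd : ∀ l a b, pd l (a * b) = a * pd l b + b * pd l a)
    (hchain : ∀ D : P →+ Q, (∀ a b, D (a * b) = r a * D b + r b * D a) → (∀ c : k, D (algebraMap k P c) = 0) →
      ∀ p, D p = ∑ l, r (pd l p) * D (Xv l))
    (hlin : ∀ l, ∃ y : ι → A, Comod.coact (k := k) (A := A) (Xv l) = ∑ j, (Xv j) ⊗ₜ[k] y j) :
    ∃ i : ι → P, (∀ j, q (i j) = 0) ∧
      (∀ f ∈ RingHom.ker q, f - ∑ l, pd l f * i l ∈ RingHom.ker q ^ 2) ∧
      IsSubcomod (k := k) (A := A) ((Ideal.span (Set.range (eqs q pd Xv i))).restrictScalars k) := by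
  have hπs : Function.Surjective π := fun c => by
    obtain ⟨p, rfl⟩ := hqs c
    exact ⟨r p, hπr p⟩
  have hπ : Hoch.IsComodHom A π.toLinearMap := by
    refine LinearMap.ext fun v => ?_
    obtain ⟨p, rfl⟩ := hrs v
    show Comod.coact (k := k) (A := A) (π (r p)) = π.toLinearMap.rTensor A (Comod.coact (k := k) (A := A) (r p))
    rw [hπr, show Comod.coact (k := k) (A := A) (q p) = q.toLinearMap.rTensor A (Comod.coact (k := k) (A := A) p) from
        LinearMap.congr_fun hq p,
      show Comod.coact (k := k) (A := A) (r p) = r.toLinearMap.rTensor A (Comod.coact (k := k) (A := A) p) from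
        LinearMap.congr_fun hr p, ← LinearMap.rTensor_comp_apply,
      show π.toLinearMap ∘ₗ r.toLinearMap = q.toLinearMap from LinearMap.ext hπr]
  have hNN : ∀ a b, a ∈ RingHom.ker π → b ∈ RingHom.ker π → a * b = 0 := by
    intro a b ha hb
    obtain ⟨a, rfl⟩ := hrs a
    obtain ⟨b, rfl⟩ := hrs b
    rw [← map_mul, hr0, pow_two]
    exact Ideal.mul_mem_mul (by rwa [RingHom.mem_ker, ← hπr]) (by rwa [RingHom.mem_ker, ← hπr])
  obtain ⟨D, hD, hDmul, hDmem, hDid⟩ := exists_equivariant_derivation hα h1 π hπs hNN hπ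
  choose i hi using fun j => hrs (D (r (Xv j)))
  have hiI : ∀ j, q (i j) = 0 := fun j => by
    rw [← hπr, hi]
    exact hDmem _
  have hD1 : D 1 = 0 := by
    have := hDmul 1 1
    rw [one_mul, one_mul] at this
    exact left_eq_add.1 this
  have hDchain : ∀ f, D (r f) = r (∑ l, pd l f * i l) := by
    intro f
    rw [map_sum]
    refine (hchain (D.toAddMonoidHom.comp r.toLinearMap.toAddMonoidHom) (fun a b => ?_) (fun c => ?_) f).trans ?_
    · show D (r (a * b)) = _
      rw [map_mul]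
      exact hDmul _ _
    · show D (r (algebraMap k P c)) = 0
      rw [r.commutes, Algebra.algebraMap_eq_smul_one, map_smul, hD1, smul_zero]
    · refine Finset.sum_congr rfl fun l _ => ?_
      rw [map_mul, hi]
      rfl
  have hsq : ∀ f ∈ RingHom.ker q, f - ∑ l, pd l f * i l ∈ RingHom.ker q ^ 2 := fun f hf => by
    rw [← hr0, map_sub, ← hDchain, hDid _ (by rwa [RingHom.mem_ker, hπr]), sub_self]
  let Dp : P →ₗ[k] Q := D ∘ₗ r.toLinearMap
  have hDH : Hoch.IsComodHom A Dp := by
    refine LinearMap.ext fun p => ?_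
    show Comod.coact (k := k) (A := A) (D (r p)) = Dp.rTensor A (Comod.coact (k := k) (A := A) p)
    rw [LinearMap.rTensor_comp_apply,
      show Comod.coact (k := k) (A := A) (D (r p)) = D.rTensor A (Comod.coact (k := k) (A := A) (r p)) from
        LinearMap.congr_fun hD _]
    exact congrArg _ (LinearMap.congr_fun hr p)
  -- the equivariant section
  obtain ⟨σ, hσ⟩ : ∃ σ : C →ₗ[k] Q, ∀ p, σ (q p) = r p - D (r p) := by
    choose g hg using hqs
    have hw : ∀ p, r (g (q p)) - D (r (g (q p))) = r p - D (r p) := fun p => by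
      have := hDid (r (g (q p) - p)) (by rw [RingHom.mem_ker, hπr, map_sub, hg, sub_self])
      rw [map_sub, map_sub] at this
      linear_combination -this
    refine ⟨{ toFun := fun c => r (g c) - D (r (g c)), map_add' := fun a b => ?_, map_smul' := fun c a => ?_ }, hw⟩
    · show _ = (r (g a) - D (r (g a))) + (r (g b) - D (r (g b)))
      have := hw (g a + g b)
      rw [map_add, hg, hg] at this
      rw [this, map_add, map_add]
      ring
    · show _ = c • (r (g a) - D (r (g a)))
      have := hw (c • g a)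
      rw [map_smul, hg] at this
      rw [this, map_smul, map_smul, smul_sub]
  have hσH : Hoch.IsComodHom A σ := by
    refine LinearMap.ext fun c => ?_
    obtain ⟨p, rfl⟩ := hqs c
    show Comod.coact (k := k) (A := A) (σ (q p)) = σ.rTensor A (Comod.coact (k := k) (A := A) (q p))
    rw [hσ, map_sub, show Comod.coact (k := k) (A := A) (q p) =
        q.toLinearMap.rTensor A (Comod.coact (k := k) (A := A) p) from LinearMap.congr_fun hq p,
      ← LinearMap.rTensor_comp_apply, show σ ∘ₗ q.toLinearMap = r.toLinearMap - Dp from LinearMap.ext hσ,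
      LinearMap.rTensor_sub, LinearMap.sub_apply]
    exact congrArg₂ (· - ·) (LinearMap.congr_fun hr p) (LinearMap.congr_fun hDH p)
  refine ⟨i, hiI, hsq, ?_⟩
  rw [span_eqs_eq q r hqs hr0 σ Dp Xv pd hpd i hiI (fun l => (hi l).symm)
    (fun p l => by
      rw [hσ, sub_mul, hNN _ _ (hDmem _) (show r (i l) ∈ RingHom.ker π by rw [RingHom.mem_ker, hπr, hiI]), sub_zero])
    hsq]
  exact isSubcomod_span_displ q hq hL hR σ hσH Dp hDH Xv hlin

end

end Groth.Agent.H20Slice
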