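import Groth.Agent.H20Slice.Lift
import Groth.Agent.H20Luna.EtaleCrit

/-!
The slice bundle is étale over the ambient representation at the base point.
-/

set_option autoImplicit false
set_option linter.style.haveILetI false
set_option linter.unusedSectionVars false
set_option maxHeartbeats 800000
set_option synthInstance.maxHeartbeats 100000

universe u

open TensorProduct

namespace Groth.Agent.H20Slice

noncomputable section

variable {k : Type u} [Field k] {P C : Type u} [CommRing P] [Algebra k P] [Algebra.FiniteType k P]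
  [CommRing C] [Algebra k C]
  {ι : Type u} [Fintype ι] [DecidableEq ι] {W : Type u} [CommRing W] [Algebra k W]
  [Algebra P W] [IsScalarTower k P W]

/-- The projection of the slice bundle to the representation is étale at the base point. -/
theorem isEtaleAt_slice [Algebra.FormallySmooth k C] (q : P →ₐ[k] C) (hqs : Function.Surjective q)
    (x : P →ₐ[k] k) (xC : C →ₐ[k] k) (hx : ∀ p, xC (q p) = x p)
    (Xv : ι → P) (hgen : Algebra.adjoin k (Set.range Xv) = ⊤)
    (pd : ι → P →ₗ[k] P) (hpd : ∀ l a b, pd l (a * b) = a * pd l b + b * pd l a)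
    (hXv : ∀ j l, pd l (Xv j) = if j = l then 1 else 0)
    (htay : ∀ p, p - algebraMap k P (x p) - ∑ l, algebraMap k P (x (pd l p)) *
      (Xv l - algebraMap k P (x (Xv l))) ∈ RingHom.ker x ^ 2)
    (i : ι → P) (hi : ∀ j, q (i j) = 0)
    (hsq : ∀ f ∈ RingHom.ker q, f - ∑ l, pd l f * i l ∈ RingHom.ker q ^ 2)
    (Θ : C ⊗[k] P →ₐ[k] W) (hΘs : Function.Surjective Θ)
    (hΘk : RingHom.ker Θ = Ideal.span (Set.range (eqs q pd Xv i)))
    (hΘP : ∀ p, Θ ((1 : C) ⊗ₜ[k] p) = algebraMap P W p)
    (w : W →ₐ[k] k) (hw : ∀ c p, w (Θ (c ⊗ₜ[k] p)) = xC c * x p) [(RingHom.ker w).IsPrime] :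
    Algebra.IsEtaleAt P (RingHom.ker w) := by
  haveI : IsNoetherianRing P := Algebra.FiniteType.isNoetherianRing k P
  haveI : Algebra.FiniteType k C := Algebra.FiniteType.of_surjective q hqs
  haveI : Algebra.FiniteType k (C ⊗[k] P) :=
    Algebra.FiniteType.trans (‹Algebra.FiniteType k C›) (inferInstance : Algebra.FiniteType C (C ⊗[k] P))
  haveI : Algebra.FiniteType k W := Algebra.FiniteType.of_surjective Θ hΘs
  haveI : Algebra.FiniteType P W := Algebra.FiniteType.of_restrictScalars_finiteType k P W
  haveI : (RingHom.ker x).IsMaximal := RingHom.ker_isMaximal_of_surjective _ fun c => ⟨algebraMap k P c, x.commutes c⟩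
  haveI : (RingHom.ker w).IsMaximal := RingHom.ker_isMaximal_of_surjective _ fun c => ⟨algebraMap k W c, w.commutes c⟩
  have hwP : ∀ p, w (algebraMap P W p) = x p := fun p => by rw [← hΘP, hw, map_one, one_mul]
  haveI : (RingHom.ker w).LiesOver (RingHom.ker x) := ⟨Ideal.ext fun p => by
    simp only [Ideal.under_def, Ideal.mem_comap, RingHom.mem_ker, hwP]⟩
  have he0 : ∀ j, Θ (eqs q pd Xv i j) = 0 := fun j => by
    rw [← RingHom.mem_ker, hΘk]
    exact Ideal.subset_span ⟨j, rfl⟩
  let jC : C →ₐ[k] W := Θ.comp Algebra.TensorProduct.includeLeft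
  have hjC : ∀ c, Θ (c ⊗ₜ[k] (1 : P)) = jC c := fun c => rfl
  have hwC : ∀ c, w (jC c) = xC c := fun c => by rw [← hjC, hw, map_one, mul_one]
  refine H20Luna.isEtaleAt_of_congr_pow (RingHom.ker x) (RingHom.ker w) (fun b n => ?_) (fun n => ⟨n, fun a ha => ?_⟩)
  · have hC0 : ∀ b : W, ∃ a : P, b - algebraMap P W a ∈ RingHom.ker w := fun b =>
      ⟨algebraMap k P (w b), by rw [RingHom.mem_ker, map_sub, hwP, x.commutes]; exact sub_self _⟩
    refine H20Luna.exists_sub_mem_pow hC0 ?_ n b
    have hm : (RingHom.ker w).comap (algebraMap P W) = RingHom.ker x :=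
      Ideal.ext fun p => by simp only [Ideal.mem_comap, RingHom.mem_ker, hwP]
    rw [hm]
    set J := RingHom.ker w ^ 2 ⊔ (RingHom.ker x).map (algebraMap P W) with hJ
    let aq : ι → W := fun l => jC (q (Xv l)) - algebraMap k W (x (Xv l))
    let bq : ι → W := fun l => algebraMap P W (Xv l) - algebraMap k W (x (Xv l))
    have haq : ∀ l, aq l ∈ RingHom.ker w := fun l => by
      rw [RingHom.mem_ker, map_sub, hwC, hx, w.commutes]
      exact sub_self _
    have hbq : ∀ l, bq l ∈ J := fun l => by
      refine Ideal.mem_sup_right ?_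
      rw [show bq l = algebraMap P W (Xv l - algebraMap k P (x (Xv l))) by
        rw [map_sub, ← IsScalarTower.algebraMap_apply]]
      refine Ideal.mem_map_of_mem _ ?_
      rw [RingHom.mem_ker, map_sub, x.commutes]
      exact sub_self _
    have hval : ∀ (c : C) (l : ι), jC c * aq l - algebraMap k W (xC c) * aq l ∈ J := fun c l => by
      rw [← sub_mul]
      refine Ideal.mem_sup_left ?_
      rw [pow_two]
      refine Ideal.mul_mem_mul ?_ (haq l)
      rw [RingHom.mem_ker, map_sub, hwC, w.commutes]
      exact sub_self _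
    have hlin : ∀ f ∈ RingHom.ker q, ∑ l, algebraMap k W (x (pd l f)) * aq l ∈ J := fun f hf => by
      refine Ideal.mem_sup_left ?_
      have h2 : jC (q (f - algebraMap k P (x f) - ∑ l, algebraMap k P (x (pd l f)) *
          (Xv l - algebraMap k P (x (Xv l))))) ∈ RingHom.ker w ^ 2 := by
        have := Ideal.mem_map_of_mem (jC.comp q).toRingHom (htay f)
        rw [Ideal.map_pow] at this
        refine Ideal.pow_right_mono (Ideal.map_le_iff_le_comap.2 fun p hp => ?_) 2 this
        show w (jC (q p)) = 0
        rw [hwC, hx]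
        exact hp
      have hxf : x f = 0 := by rw [← hx, show q f = 0 from hf, map_zero]
      rw [← neg_mem_iff]
      convert h2 using 1
      simp only [map_sub, map_sum, map_mul, AlgHom.commutes, show q f = 0 from hf, map_zero, hxf, sub_zero, zero_sub,
        map_neg, aq]
    have haJ : ∀ j, aq j ∈ J := fun j => by
      have h3 : ∑ l, jC (eqCoeff q pd i j l) * (bq l - aq l) = 0 := by
        refine Eq.trans ?_ (he0 j)
        rw [eqs, map_sum]
        refine Finset.sum_congr rfl fun l _ => ?_
        rw [map_mul, map_sub, hΘP, hjC, hjC]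
        simp only [bq, aq]
        ring
      have h4 : ∑ l, jC (eqCoeff q pd i j l) * aq l ∈ J := by
        rw [show ∑ l, jC (eqCoeff q pd i j l) * aq l = ∑ l, jC (eqCoeff q pd i j l) * bq l by
          rw [eq_comm, ← sub_eq_zero, ← Finset.sum_sub_distrib, ← h3]
          exact Finset.sum_congr rfl fun l _ => (mul_sub _ _ _).symm]
        exact Ideal.sum_mem _ fun l _ => J.mul_mem_left _ (hbq l)
      have h5 : ∑ l, algebraMap k W (xC (eqCoeff q pd i j l)) * aq l ∈ J := by
        have := sub_mem h4 (Ideal.sum_mem J fun l (_ : l ∈ Finset.univ) => hval (eqCoeff q pd i j l) l)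
        simpa only [← Finset.sum_sub_distrib, sub_sub_cancel] using this
      have h6 := add_mem h5 (hlin (i j) (hi j))
      simpa only [eqCoeff, map_sub, hx, apply_ite xC, map_one, map_zero, apply_ite (algebraMap k W), sub_mul, ite_mul,
        one_mul, zero_mul, Finset.sum_sub_distrib, Finset.sum_ite_eq, Finset.mem_univ, if_true, sub_add_cancel] using h6
    intro b hb
    suffices key : ∀ t : C ⊗[k] P, Θ t - algebraMap k W (w (Θ t)) ∈ J by
      obtain ⟨t, rfl⟩ := hΘs b
      have := key t
      rwa [show w (Θ t) = 0 from hb, map_zero, sub_zero] at this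
    have hP : ∀ p, algebraMap P W p - algebraMap k W (x p) ∈ J := fun p => by
      refine Ideal.mem_sup_right ?_
      rw [IsScalarTower.algebraMap_apply k P W, ← map_sub]
      refine Ideal.mem_map_of_mem _ ?_
      rw [RingHom.mem_ker, map_sub, x.commutes]
      exact sub_self _
    have hC : ∀ c, jC c - algebraMap k W (xC c) ∈ J := fun c => by
      obtain ⟨p, rfl⟩ := hqs c
      have hp : p ∈ Algebra.adjoin k (Set.range Xv) := hgen ▸ Algebra.mem_top
      induction hp using Algebra.adjoin_induction with
      | mem v hv =>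
        obtain ⟨l, rfl⟩ := hv
        rw [hx]
        exact haJ l
      | algebraMap r => simp [hx, x.commutes]
      | add u v _ _ hu hv =>
        convert add_mem hu hv using 1
        simp only [map_add]
        ring
      | mul u v _ _ hu hv =>
        convert add_mem (J.mul_mem_left (jC (q u)) hv) (J.mul_mem_left (algebraMap k W (xC (q v))) hu) using 1
        simp only [map_mul]
        ring
    intro t
    induction t using TensorProduct.induction_on with
    | zero => simp
    | add u v hu hv =>
      convert add_mem hu hv using 1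
      simp only [map_add]
      ring
    | tmul c p =>
      rw [hw, map_mul, show Θ (c ⊗ₜ[k] p) = jC c * algebraMap P W p by
        rw [← hjC, ← hΘP, ← map_mul, Algebra.TensorProduct.tmul_mul_tmul, mul_one, one_mul]]
      convert add_mem (J.mul_mem_left (jC c) (hP p)) (J.mul_mem_left (algebraMap k W (x p)) (hC c)) using 1
      ring
  · rcases n with _ | n
    · simp
    obtain ⟨o, ho, hoe⟩ := exists_section q hqs x xC hx Xv pd hpd hXv i hi hsq n
    let ω₀ : C ⊗[k] P →ₐ[k] P ⧸ RingHom.ker x ^ (n + 1) :=
      Algebra.TensorProduct.lift o (Ideal.Quotient.mkₐ k _) fun _ _ => Commute.all _ _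
    have hω₀ : ∀ c p, ω₀ (c ⊗ₜ[k] p) = o c * Ideal.Quotient.mk _ p := fun c p =>
      Algebra.TensorProduct.lift_tmul _ _ _ c p
    have hker : RingHom.ker Θ ≤ RingHom.ker ω₀ := by
      rw [hΘk]
      refine Ideal.span_le.2 ?_
      rintro _ ⟨j, rfl⟩
      rw [SetLike.mem_coe, RingHom.mem_ker, eqs, map_sum, ← hoe j]
      refine Finset.sum_congr rfl fun l _ => ?_
      rw [map_mul, map_sub, hω₀, hω₀, hω₀]
      simp
    have h1 : ∀ b ∈ RingHom.ker w, ∀ t, Θ t = b → ω₀ t ∈ (RingHom.ker x).map (Ideal.Quotient.mk _) := by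
      intro b hb t ht
      have hv : ∀ s, ω₀ s - algebraMap k _ (w (Θ s)) ∈ (RingHom.ker x).map (Ideal.Quotient.mk _) := fun s => by
        induction s using TensorProduct.induction_on with
        | zero => simp
        | add u v hu hv =>
          convert add_mem hu hv using 1
          simp only [map_add]
          ring
        | tmul c p =>
          have hp : Ideal.Quotient.mk (RingHom.ker x ^ (n + 1)) p - algebraMap k _ (x p) ∈
              (RingHom.ker x).map (Ideal.Quotient.mk (RingHom.ker x ^ (n + 1))) := by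
            rw [← Ideal.Quotient.mk_algebraMap, ← map_sub]
            refine Ideal.mem_map_of_mem _ ?_
            rw [RingHom.mem_ker, map_sub, x.commutes]
            exact sub_self _
          rw [hω₀, hw, map_mul]
          convert add_mem (Ideal.mul_mem_left _ (o c) hp) (Ideal.mul_mem_left _ (algebraMap k _ (x p)) (ho c)) using 1
          ring
      have := hv t
      rwa [ht, show w b = 0 from hb, map_zero, sub_zero] at this
    let ω : W →+* P ⧸ RingHom.ker x ^ (n + 1) := RingHom.liftOfSurjective Θ.toRingHom hΘs ⟨ω₀.toRingHom, hker⟩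
    have hω : ∀ t, ω (Θ t) = ω₀ t := fun t => RingHom.liftOfRightInverse_comp_apply _ _ _ _ t
    have hle : (RingHom.ker w).map ω ≤ (RingHom.ker x).map (Ideal.Quotient.mk _) :=
      Ideal.map_le_iff_le_comap.2 fun b hb => by
        obtain ⟨t, rfl⟩ := hΘs b
        rw [Ideal.mem_comap, hω]
        exact h1 _ hb t rfl
    have h2 := Ideal.mem_map_of_mem ω ha
    rw [Ideal.map_pow, ← hΘP, hω, hω₀, map_one, one_mul] at h2
    have h3 := Ideal.pow_right_mono hle (n + 1) h2
    rw [← Ideal.map_pow, Ideal.map_quotient_self, Ideal.mem_bot] at h3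
    exact Ideal.Quotient.eq_zero_iff_mem.1 h3

end

end Groth.Agent.H20Slice
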