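import Groth.Agent.H20Slice.Equations

/-!
Formal sections of the slice bundle over the ambient representation.
-/

set_option autoImplicit false
set_option linter.style.haveILetI false
set_option linter.unusedSectionVars false
set_option maxHeartbeats 800000

universe u

open TensorProduct

namespace Groth.Agent.H20Slice

noncomputable section

variable {k : Type u} [Field k] {P C : Type u} [CommRing P] [Algebra k P] [CommRing C] [Algebra k C]
  {ι : Type u} [Fintype ι] [DecidableEq ι]

/-- Solutions of the slice equations lift to all infinitesimal neighbourhoods of the point. -/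
theorem exists_section [Algebra.FormallySmooth k C] (q : P →ₐ[k] C) (hqs : Function.Surjective q)
    (x : P →ₐ[k] k) (xC : C →ₐ[k] k) (hx : ∀ p, xC (q p) = x p)
    (Xv : ι → P) (pd : ι → P →ₗ[k] P) (hpd : ∀ l a b, pd l (a * b) = a * pd l b + b * pd l a)
    (hXv : ∀ j l, pd l (Xv j) = if j = l then 1 else 0) (i : ι → P) (hi : ∀ j, q (i j) = 0)
    (hsq : ∀ f ∈ RingHom.ker q, f - ∑ l, pd l f * i l ∈ RingHom.ker q ^ 2) (n : ℕ) :
    ∃ o : C →ₐ[k] P ⧸ RingHom.ker x ^ (n + 1),
      (∀ c, o c - algebraMap k _ (xC c) ∈ (RingHom.ker x).map (Ideal.Quotient.mk (RingHom.ker x ^ (n + 1)))) ∧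
      ∀ j, ∑ l, o (eqCoeff q pd i j l) *
        (Ideal.Quotient.mk (RingHom.ker x ^ (n + 1)) (Xv l) - o (q (Xv l))) = 0 := by
  induction n with
  | zero =>
    refine ⟨(Algebra.ofId k _).comp xC, fun c => ?_, fun j => Finset.sum_eq_zero fun l _ => ?_⟩
    · rw [show (Algebra.ofId k (P ⧸ RingHom.ker x ^ (0 + 1))).comp xC c = algebraMap k _ (xC c) from rfl, sub_self]
      exact zero_mem _
    · rw [show (Algebra.ofId k (P ⧸ RingHom.ker x ^ (0 + 1))).comp xC (q (Xv l)) = algebraMap k _ (xC (q (Xv l))) from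
        rfl, hx]
      rw [show (Ideal.Quotient.mk (RingHom.ker x ^ (0 + 1)) (Xv l) - algebraMap k _ (x (Xv l))) = 0 from ?_, mul_zero]
      rw [← Ideal.Quotient.mk_algebraMap, ← map_sub, Ideal.Quotient.eq_zero_iff_mem, zero_add, pow_one,
        RingHom.mem_ker, map_sub, x.commutes]
      exact sub_self _
  | succ n ih =>
    obtain ⟨o, ho, hoe⟩ := ih
    let m := RingHom.ker x
    let π := Ideal.Quotient.factorₐ k (Ideal.pow_le_pow_right (I := m) (Nat.le_succ (n + 1)))
    have hπs : Function.Surjective π := fun v => by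
      obtain ⟨p, rfl⟩ := Ideal.Quotient.mk_surjective v
      exact ⟨Ideal.Quotient.mk _ p, rfl⟩
    have hG : ∀ g, π g = 0 → ∃ p ∈ m ^ (n + 1), Ideal.Quotient.mk (m ^ (n + 1 + 1)) p = g := fun g hg => by
      obtain ⟨p, rfl⟩ := Ideal.Quotient.mk_surjective g
      exact ⟨p, Ideal.Quotient.eq_zero_iff_mem.1 hg, rfl⟩
    have hGm : ∀ g v, π g = 0 → v ∈ m.map (Ideal.Quotient.mk (m ^ (n + 1 + 1))) → g * v = 0 := fun g v hg hv => by
      obtain ⟨p, hp, rfl⟩ := hG g hg
      obtain ⟨q', hq', rfl⟩ := (Ideal.mem_map_iff_of_surjective _ Ideal.Quotient.mk_surjective).1 hv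
      rw [← map_mul, Ideal.Quotient.eq_zero_iff_mem, pow_succ _ (n + 1)]
      exact Ideal.mul_mem_mul hp hq'
    have hGsub : ∀ g, π g = 0 → g ∈ m.map (Ideal.Quotient.mk (m ^ (n + 1 + 1))) := fun g hg => by
      obtain ⟨p, hp, rfl⟩ := hG g hg
      exact Ideal.mem_map_of_mem _ (Ideal.pow_le_self (Nat.succ_ne_zero n) hp)
    have hnil : IsNilpotent (RingHom.ker (π : P ⧸ m ^ (n + 1 + 1) →+* P ⧸ m ^ (n + 1))) :=
      ⟨2, (pow_two (RingHom.ker (π : P ⧸ m ^ (n + 1 + 1) →+* P ⧸ m ^ (n + 1)))).trans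
        (eq_bot_iff.2 (Ideal.mul_le.2 fun a ha b hb => Ideal.mem_bot.2 (hGm a b ha (hGsub b hb))))⟩
    let o' := Algebra.FormallySmooth.liftOfSurjective o π hπs hnil
    have ho' : ∀ c, π (o' c) = o c := fun c => Algebra.FormallySmooth.liftOfSurjective_apply _ _ _ _ c
    have hlift : ∀ v, π v ∈ m.map (Ideal.Quotient.mk (m ^ (n + 1))) →
        v ∈ m.map (Ideal.Quotient.mk (m ^ (n + 1 + 1))) := fun v hv => by
      obtain ⟨q', hq', he⟩ := (Ideal.mem_map_iff_of_surjective _ Ideal.Quotient.mk_surjective).1 hv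
      rw [← sub_add_cancel v (Ideal.Quotient.mk _ q')]
      refine add_mem (hGsub _ ?_) (Ideal.mem_map_of_mem _ hq')
      rw [map_sub, ← he]
      exact sub_self _
    have ho'm : ∀ c, o' c - algebraMap k _ (xC c) ∈ m.map (Ideal.Quotient.mk (m ^ (n + 1 + 1))) := fun c =>
      hlift _ (by rw [map_sub, ho', AlgHom.commutes]; exact ho c)
    let Mv : ι → P ⧸ m ^ (n + 1 + 1) := fun l => Ideal.Quotient.mk _ (Xv l) - o' (q (Xv l))
    have hMv : ∀ l, Mv l ∈ m.map (Ideal.Quotient.mk (m ^ (n + 1 + 1))) := fun l => by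
      have e : Mv l = Ideal.Quotient.mk _ (Xv l - algebraMap k P (x (Xv l))) -
          (o' (q (Xv l)) - algebraMap k _ (xC (q (Xv l)))) := by
        rw [hx, map_sub, Ideal.Quotient.mk_algebraMap]
        ring
      rw [e]
      refine sub_mem (Ideal.mem_map_of_mem _ ?_) (ho'm _)
      rw [RingHom.mem_ker, map_sub, x.commutes]
      exact sub_self _
    let e : ι → P ⧸ m ^ (n + 1 + 1) := fun j => ∑ l, o' (eqCoeff q pd i j l) * Mv l
    have he : ∀ j, π (e j) = 0 := fun j => by
      simp only [e, Mv, map_sum, map_mul, map_sub, ho']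
      exact hoe j
    have hscal : ∀ (c : C) (g : P ⧸ m ^ (n + 1 + 1)), π g = 0 → o' c * g = xC c • g := fun c g hg => by
      rw [Algebra.smul_def, ← sub_eq_zero, ← sub_mul, mul_comm]
      exact hGm g _ hg (ho'm c)
    let δ : P →ₗ[k] P ⧸ m ^ (n + 1 + 1) := ∑ l, ((x.toLinearMap ∘ₗ pd l).smulRight (e l))
    have hδ : ∀ p, δ p = ∑ l, x (pd l p) • e l := fun p => by simp [δ]
    have hδG : ∀ p, π (δ p) = 0 := fun p => by simp [hδ, he]
    have hδ0 : ∀ f ∈ RingHom.ker q, δ f = 0 := fun f hf => by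
      have hd : ∀ l', q (pd l' f) = ∑ l, q (pd l f) * q (pd l' (i l)) := fun l' => by
        have := apply_pd_eq_zero q (pd l') (hpd l') (hsq f hf)
        rw [map_sub, map_sub, sub_eq_zero] at this
        rw [this, map_sum, map_sum]
        refine Finset.sum_congr rfl fun l _ => ?_
        rw [hpd, map_add, map_mul, map_mul, hi, zero_mul, add_zero]
      calc δ f = ∑ l, o' (q (pd l f)) * e l := by
            rw [hδ]
            exact Finset.sum_congr rfl fun l _ => by rw [hscal _ _ (he l), hx]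
        _ = ∑ l', o' (∑ l, q (pd l f) * eqCoeff q pd i l l') * Mv l' := by
            simp only [e, Finset.mul_sum, map_sum, map_mul, Finset.sum_mul, mul_assoc]
            exact Finset.sum_comm
        _ = 0 := Finset.sum_eq_zero fun l' _ => by
            have : ∑ l, q (pd l f) * eqCoeff q pd i l l' = 0 := by
              simp only [eqCoeff, mul_sub, Finset.sum_sub_distrib, mul_ite, mul_one, mul_zero, Finset.sum_ite_eq',
                Finset.mem_univ, if_true, ← hd, sub_self]
            rw [this, map_zero, zero_mul]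
    have hδ1 : δ 1 = 0 := by
      rw [hδ]
      refine Finset.sum_eq_zero fun l _ => ?_
      have := hpd l 1 1
      rw [one_mul, one_mul] at this
      rw [left_eq_add.1 this, map_zero, zero_smul]
    let Ψ : P →ₐ[k] P ⧸ m ^ (n + 1 + 1) := AlgHom.ofLinearMap ((o'.comp q).toLinearMap + δ)
      (by show o' (q 1) + δ 1 = 1; rw [map_one, map_one, hδ1, add_zero])
      (fun a b => by
        show o' (q (a * b)) + δ (a * b) = (o' (q a) + δ a) * (o' (q b) + δ b)
        have h3 : δ (a * b) = o' (q a) * δ b + o' (q b) * δ a := by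
          rw [hscal _ _ (hδG b), hscal _ _ (hδG a), hx, hx, hδ, hδ, hδ]
          simp only [hpd, map_add, map_mul, add_smul, Finset.sum_add_distrib, Finset.smul_sum, smul_smul]
        rw [map_mul, map_mul, h3]
        linear_combination (-1 : P ⧸ m ^ (n + 1 + 1)) * hGm _ _ (hδG a) (hGsub _ (hδG b)))
    have hΨ : ∀ p, Ψ p = o' (q p) + δ p := fun p => rfl
    have hΨ0 : ∀ f ∈ RingHom.ker q, Ψ f = 0 := fun f hf => by
      rw [hΨ, show q f = 0 from hf, map_zero, zero_add, hδ0 f hf]
    let o'' : C →ₐ[k] P ⧸ m ^ (n + 1 + 1) :=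
      (Ideal.Quotient.liftₐ (RingHom.ker q) Ψ hΨ0).comp
        (Ideal.quotientKerAlgEquivOfSurjective hqs).symm.toAlgHom
    have ho'' : ∀ p, o'' (q p) = o' (q p) + δ p := fun p => by
      have e : (Ideal.quotientKerAlgEquivOfSurjective hqs).symm (q p) = Ideal.Quotient.mk (RingHom.ker q) p := by
        rw [AlgEquiv.symm_apply_eq]
        rfl
      show Ideal.Quotient.liftₐ _ Ψ hΨ0 ((Ideal.quotientKerAlgEquivOfSurjective hqs).symm (q p)) = _
      rw [e]
      rfl
    refine ⟨o'', fun c => ?_, fun j => ?_⟩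
    · obtain ⟨p, rfl⟩ := hqs c
      rw [ho'', add_sub_right_comm]
      exact add_mem (ho'm _) (hGsub _ (hδG p))
    · choose s hs using fun l => hqs (eqCoeff q pd i j l)
      have hδX : ∀ l, δ (Xv l) = e l := fun l => by
        simp [hδ, hXv, apply_ite x, ite_smul]
      have hterm : ∀ l, o'' (eqCoeff q pd i j l) * (Ideal.Quotient.mk _ (Xv l) - o'' (q (Xv l))) =
          o' (eqCoeff q pd i j l) * Mv l - xC (eqCoeff q pd i j l) • e l := fun l => by
        rw [← hs, ho'', ho'', hδX, ← hscal _ _ (he l)]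
        linear_combination (1 : P ⧸ m ^ (n + 1 + 1)) * hGm _ _ (hδG (s l)) (hMv l) -
          hGm _ _ (hδG (s l)) (hGsub _ (he l))
      rw [Finset.sum_congr rfl fun l _ => hterm l, Finset.sum_sub_distrib]
      show e j - _ = 0
      have hj : ∀ l, xC (eqCoeff q pd i j l) = (if j = l then 1 else 0) - x (pd l (i j)) := fun l => by
        rw [eqCoeff, map_sub, hx, apply_ite xC, map_one, map_zero]
      simp only [hj, sub_smul, Finset.sum_sub_distrib, ite_smul, one_smul, zero_smul, Finset.sum_ite_eq,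
        Finset.mem_univ, if_true, ← hδ, hδ0 (i j) (hi j), sub_zero, sub_self]

end

end Groth.Agent.H20Slice
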