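import Groth.Agent.H20Slice.Comod
import Mathlib.Algebra.MvPolynomial.PDeriv

/-!
Stable ideals generated by stable sets, and first-order Taylor expansions of polynomials.
-/

set_option autoImplicit false
set_option linter.style.haveILetI false
set_option linter.unusedSectionVars false
set_option maxHeartbeats 400000

universe u

open TensorProduct HopfRep MvPolynomial
open Groth.Agent.H20Comod

namespace Groth.Agent.H20Slice

noncomputable section

variable {k : Type u} [Field k] {A : Type u} [CommRing A] [HopfAlgebra k A]
  {R : Type u} [CommRing R] [Algebra k R] [Comod k A R] [GLin.IsCoactAlg k A R]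

/-- The ideal generated by a stable subspace is stable. -/
theorem isSubcomod_span (K : Submodule k R) (hK : IsSubcomod (k := k) (A := A) K) :
    IsSubcomod (k := k) (A := A) ((Ideal.span (K : Set R)).restrictScalars k) := by
  intro f hf
  set J := Ideal.span (K : Set R)
  let RG := LinearMap.range ((J.restrictScalars k).subtype.rTensor A)
  have hmul : ∀ (z y : R ⊗[k] A), y ∈ RG → z * y ∈ RG := by
    rintro z _ ⟨y, rfl⟩
    induction y using TensorProduct.induction_on with
    | zero => simp [RG]
    | add u v hu hv => rw [map_add, mul_add]; exact add_mem hu hv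
    | tmul j b =>
      induction z using TensorProduct.induction_on with
      | zero => simp [RG]
      | add u v hu hv => rw [add_mul]; exact add_mem hu hv
      | tmul r a => exact ⟨(⟨r * (j : R), J.mul_mem_left r j.2⟩ : J.restrictScalars k) ⊗ₜ[k] (a * b), by simp⟩
  show Comod.coact (k := k) (A := A) f ∈ RG
  replace hf : f ∈ J := hf
  induction hf using Submodule.span_induction with
  | mem z hz =>
    obtain ⟨y, hy⟩ := hK z hz
    have : K ≤ J.restrictScalars k := fun z hz => Ideal.subset_span hz
    refine ⟨(Submodule.inclusion this).rTensor A y, ?_⟩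
    rw [← LinearMap.rTensor_comp_apply, ← hy]
    rfl
  | zero => rw [map_zero]; exact zero_mem _
  | add a b _ _ ha hb => rw [map_add]; exact add_mem ha hb
  | smul c a _ ha => rw [smul_eq_mul, GLin.IsCoactAlg.coact_mul]; exact hmul _ _ ha

end

noncomputable section Taylor

variable {k : Type u} [CommRing k] {ι : Type u} [Fintype ι]

/-- A derivation of a polynomial ring is given by its values on the variables. -/
theorem derivation_eq_sum {B : Type u} [CommRing B] (f : MvPolynomial ι k →+* B) (D : MvPolynomial ι k →+ B)
    (hD : ∀ a b, D (a * b) = f a * D b + f b * D a) (hC : ∀ c : k, D (C c) = 0) (p : MvPolynomial ι k) :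
    D p = ∑ l, f (pderiv l p) * D (X l) := by
  classical
  induction p using MvPolynomial.induction_on with
  | C c => simp [hC]
  | add a b ha hb => simp only [map_add, ha, hb, add_mul, Finset.sum_add_distrib]
  | mul_X a i ha =>
    simp only [hD, pderiv_mul, pderiv_X, map_add, map_mul, ha, add_mul, Finset.sum_add_distrib, Finset.mul_sum]
    rw [add_comm]
    refine congrArg₂ (· + ·) (Finset.sum_congr rfl fun l _ => by ring) ?_
    simp [Pi.single_apply, apply_ite f, mul_ite, ite_mul]

/-- Taylor expansion to first order at a point. -/
theorem sub_sum_pderiv_mem_sq (x : MvPolynomial ι k →ₐ[k] k) (p : MvPolynomial ι k) :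
    p - C (x p) - ∑ l, C (x (pderiv l p)) * (X l - C (x (X l))) ∈ RingHom.ker x ^ 2 := by
  classical
  induction p using MvPolynomial.induction_on with
  | C c => simp [show x (C c) = c from x.commutes c]
  | add a b ha hb =>
    convert add_mem ha hb using 1
    simp only [map_add, add_mul, Finset.sum_add_distrib]
    ring
  | mul_X a i ha =>
    have hX : (a - C (x a)) * (X i - C (x (X i))) ∈ RingHom.ker x ^ 2 := by
      rw [pow_two]
      refine Ideal.mul_mem_mul ?_ ?_ <;>
        simp [show ∀ c : k, x (C c) = c from x.commutes]
    have hl : ∀ l, C (x (pderiv l (a * X i))) * (X l - C (x (X l))) =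
        C (x (X i)) * (C (x (pderiv l a)) * (X l - C (x (X l)))) +
          if i = l then C (x a) * (X l - C (x (X l))) else 0 := fun l => by
      rw [pderiv_mul, pderiv_X, map_add, map_mul, map_mul, map_add, map_mul, map_mul, Pi.single_apply]
      split_ifs <;> simp_all <;> ring
    convert add_mem hX (Ideal.mul_mem_left _ (C (x (X i))) ha) using 1
    rw [Finset.sum_congr rfl fun l _ => hl l, Finset.sum_add_distrib, Finset.sum_ite_eq, if_pos (Finset.mem_univ i),
      ← Finset.mul_sum, map_mul, map_mul]
    ring

end Taylor

end Groth.Agent.H20Slice
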