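import Groth.Agent.H20Slice.Smooth
import Groth.Agent.H20Slice.Span
import Groth.Agent.H20Comod.DualMod

/-!
An equivariant first order retraction onto a closed orbit in a representation.
-/

set_option autoImplicit false
set_option linter.style.haveILetI false
set_option linter.unusedSectionVars false
set_option backward.isDefEq.respectTransparency false
set_option maxHeartbeats 800000
set_option synthInstance.maxHeartbeats 100000

universe u

open TensorProduct HopfRep
open Groth.Agent.H20Comod Groth.Agent.H20Comod.OrbitPrimes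

namespace Groth.Agent.H20Slice

noncomputable section

variable {k : Type u} [Field k] {A : Type u} [CommRing A] [HopfAlgebra k A]
  {Q C : Type u} [CommRing Q] [Algebra k Q] [Comod k A Q] [GLin.IsCoactAlg k A Q]
  [CommRing C] [Algebra k C] [Comod k A C]

/-- The equivariant idempotent derivation of a first order thickening onto its ideal. -/
theorem exists_equivariant_derivation {α : A →ₗ[k] k} (hα : IsIntegral α) (h1 : α 1 = 1)
    [Algebra.FormallySmooth k C] (π : Q →ₐ[k] C) (hsurj : Function.Surjective π)
    (hN : ∀ a b, a ∈ RingHom.ker π → b ∈ RingHom.ker π → a * b = 0)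
    (h2 : Hoch.IsComodHom A π.toLinearMap) :
    ∃ D : Q →ₗ[k] Q, Hoch.IsComodHom A D ∧ (∀ a b, D (a * b) = a * D b + b * D a) ∧
      (∀ a, D a ∈ RingHom.ker π) ∧ ∀ a ∈ RingHom.ker π, D a = a := by
  have hnil : IsNilpotent (RingHom.ker (π : Q →+* C)) :=
    ⟨2, (pow_two (RingHom.ker (π : Q →+* C))).trans
      (eq_bot_iff.2 (Ideal.mul_le.2 fun a ha b hb => Ideal.mem_bot.2 (hN a b ha hb)))⟩
  let σ : C →ₐ[k] Q := Algebra.FormallySmooth.liftOfSurjective (AlgHom.id k _) π hsurj hnil
  have hσ : ∀ c, π (σ c) = c := fun c => Algebra.FormallySmooth.liftOfSurjective_apply _ _ _ _ c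
  let D₀ : Q →ₗ[k] Q := LinearMap.id - σ.toLinearMap ∘ₗ π.toLinearMap
  have hD₀ : ∀ a, D₀ a = a - σ (π a) := fun a => rfl
  have hmem : ∀ a, D₀ a ∈ RingHom.ker π := fun a => by rw [RingHom.mem_ker, hD₀, map_sub, hσ, sub_self]
  have hid : ∀ a ∈ RingHom.ker π, D₀ a = a := fun a ha => by
    rw [hD₀, show π a = 0 from ha, map_zero, sub_zero]
  have hL : ∀ a b, D₀ (a * b) = a * D₀ b + b * D₀ a := fun a b => by
    have := hN _ _ (hmem a) (hmem b)
    simp only [hD₀, map_mul] at this ⊢
    linear_combination -this
  have hW : IsSubcomod (k := k) (A := A) ((RingHom.ker π).restrictScalars k) := isSubcomod_ker h2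
  exact ⟨average α D₀, (isComodHom_iff_forall_actL _).2 fun φ v => average_comm hα D₀ φ v,
    fun a b => average_leibniz α D₀ hL a b, fun a => average_mem hW hmem a,
    fun a ha => average_eq_self h1 hW hid ha⟩

end

end Groth.Agent.H20Slice
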