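import Groth.Agent.H20Slice.Comod
import Mathlib.RingTheory.Smooth.Field
import Mathlib.RingTheory.Smooth.Locus
import Mathlib.RingTheory.Localization.Basic
import Mathlib.FieldTheory.Perfect

/-!
A reduced irreducible orbit in characteristic zero is smooth.
-/

set_option autoImplicit false
set_option linter.style.haveILetI false
set_option linter.unusedSectionVars false
set_option backward.isDefEq.respectTransparency false
set_option maxHeartbeats 400000

universe u

open TensorProduct HopfRep
open Groth.Agent.H20Comod Groth.Agent.H20Comod.OrbitPrimes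

namespace Groth.Agent.H20Slice

noncomputable section

variable {k : Type u} [Field k] [IsAlgClosed k] {A : Type u} [CommRing A] [HopfAlgebra k A] [Algebra.FiniteType k A]
  {C : Type u} [CommRing C] [Algebra k C] [Algebra.FiniteType k C] [Comod k A C] [GLin.IsCoactAlg k A C]

/-- The smooth locus is stable under automorphisms. -/
theorem isSmoothAt_comap {C : Type u} [CommRing C] [Algebra k C] (e : C ≃ₐ[k] C) (q : Ideal C) [q.IsPrime]
    [Algebra.IsSmoothAt k q] : Algebra.IsSmoothAt k (q.comap e.toRingEquiv.toRingHom) := by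
  have H : (q.comap e.toRingEquiv.toRingHom).primeCompl.map e = q.primeCompl := by
    ext c
    simp only [Submonoid.mem_map, Ideal.mem_primeCompl_iff, Ideal.mem_comap]
    constructor
    · rintro ⟨d, hd, rfl⟩
      exact hd
    · intro hc
      exact ⟨e.symm c, by simpa using hc, by simp⟩
  exact Algebra.FormallySmooth.of_equiv
    (IsLocalization.algEquivOfAlgEquiv (Localization.AtPrime (q.comap e.toRingEquiv.toRingHom))
      (Localization.AtPrime q) e H).symm

/-- A dense orbit that is all of the space makes an integral space smooth in characteristic zero. -/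
theorem formallySmooth_of_isClosedOrbit [CharZero k] [IsDomain C] (x : C →ₐ[k] k) (hx : GLin.IsClosedOrbit k A x)
    (hker : RingHom.ker (GLin.orbitHom k A x) = ⊥) : Algebra.FormallySmooth k C := by
  haveI : Algebra.FinitePresentation k C := Algebra.FinitePresentation.of_finiteType.mp inferInstance
  haveI : Algebra.IsSmoothAt k (⊥ : Ideal C) := by
    let K := Localization.AtPrime (⊥ : Ideal C)
    haveI : IsFractionRing C K := by
      have h : (⊥ : Ideal C).primeCompl = nonZeroDivisors C := by
        ext c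
        simp [mem_nonZeroDivisors_iff_ne_zero]
      show IsLocalization (nonZeroDivisors C) K
      rw [← h]
      infer_instance
    haveI : IsDomain K := IsFractionRing.isDomain C
    letI : Field K := IsFractionRing.toField C
    haveI : Algebra.EssFiniteType C K := .of_isLocalization K (⊥ : Ideal C).primeCompl
    haveI : Algebra.EssFiniteType k K := .comp k C K
    show Algebra.FormallySmooth k K
    infer_instance
  obtain ⟨f, hf, hfU⟩ : ∃ f : C, f ∉ (⊥ : Ideal C) ∧
      (PrimeSpectrum.basicOpen f : Set (PrimeSpectrum C)) ⊆ Algebra.smoothLocus k C := by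
    obtain ⟨_, ⟨_, ⟨f, rfl⟩, rfl⟩, hxf, hf⟩ := PrimeSpectrum.isBasis_basic_opens.exists_subset_of_mem_open
      (show (⟨⊥, Ideal.isPrime_bot⟩ : PrimeSpectrum C) ∈ Algebra.smoothLocus k C from ‹_›) Algebra.isOpen_smoothLocus
    exact ⟨f, hxf, hf⟩
  obtain ⟨z, -, hz⟩ := exists_point_notMem (k := k) ⊥ hf
  have hall : ∀ w : C →ₐ[k] k, ∀ hw : (RingHom.ker w).IsPrime,
      (⟨RingHom.ker w, hw⟩ : PrimeSpectrum C) ∈ Algebra.smoothLocus k C := by
    intro w hw
    obtain ⟨g₁, rfl⟩ := exists_actPt_eq_of_isClosedOrbit hx (z := z) (hker.le.trans bot_le)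
    obtain ⟨g₂, rfl⟩ := exists_actPt_eq_of_isClosedOrbit hx (z := w) (hker.le.trans bot_le)
    obtain ⟨δ, hδ⟩ : ∃ δ : A →ₐ[k] k, GLin.actPt k g₂ x = GLin.actPt k δ (GLin.actPt k g₁ x) :=
      ⟨(WithConv.toConv ((WithConv.toConv g₁)⁻¹).ofConv * WithConv.toConv g₂).ofConv, by
        rw [actPt_actPt, WithConv.toConv_ofConv, WithConv.toConv_ofConv, ← mul_assoc, mul_inv_cancel, one_mul]⟩
    let e : C ≃ₐ[k] C := AlgEquiv.ofBijective (actAlg δ) (actAlg_bijective δ)
    haveI : (RingHom.ker (GLin.actPt k g₁ x)).IsPrime := RingHom.ker_isPrime _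
    haveI : Algebra.IsSmoothAt k (RingHom.ker (GLin.actPt k g₁ x)) :=
      hfU (a := ⟨_, RingHom.ker_isPrime _⟩) hz
    have he : RingHom.ker (GLin.actPt k g₂ x) = (RingHom.ker (GLin.actPt k g₁ x)).comap e.toRingEquiv.toRingHom := by
      ext c
      show GLin.actPt k g₂ x c = 0 ↔ GLin.actPt k g₁ x (actAlg δ c) = 0
      rw [hδ, GLin.actPt, AlgHom.comp_apply, ← apply_act, actAlg_apply, act_eq_actL]
    show Algebra.IsSmoothAt k (RingHom.ker (GLin.actPt k g₂ x))
    haveI := isSmoothAt_comap e (RingHom.ker (GLin.actPt k g₁ x))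
    simp only [he]
    exact ‹_›
  refine Algebra.smoothLocus_eq_univ_iff.1 (Set.eq_univ_of_forall fun p => ?_)
  obtain ⟨M, hM, hpM⟩ := Ideal.exists_le_maximal p.asIdeal p.isPrime.ne_top
  obtain ⟨w, hw⟩ := exists_point_le_ker (k := k) hM.ne_top
  refine ((PrimeSpectrum.le_iff_specializes p (⟨RingHom.ker w, RingHom.ker_isPrime w⟩ : PrimeSpectrum C)).1
    (hpM.trans hw)).mem_open Algebra.isOpen_smoothLocus (hall w _)

end

end Groth.Agent.H20Slice
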