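import Groth.Agent.H20Slice.Slice
import Groth.Agent.H20Luna.Saturated

/-!
Semicontinuity of stabilizers near a closed orbit.
-/

set_option autoImplicit false
set_option linter.style.haveILetI false
set_option linter.unusedSectionVars false
set_option backward.isDefEq.respectTransparency false
set_option maxHeartbeats 800000
set_option synthInstance.maxHeartbeats 100000

universe u

open TensorProduct HopfRep
open Groth.Agent.H20Comod Groth.Agent.H20Comod.OrbitPrimes

namespace Groth.Agent.H20Slice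

noncomputable section

variable {k : Type u} [Field k] [IsAlgClosed k] {A : Type u} [CommRing A] [IsDomain A] [HopfAlgebra k A]
  [Algebra.FiniteType k A]

/-- The stabilizer of a point fixes its image. -/
theorem stabIdeal_comp_le {R S : Type u} [CommRing R] [Algebra k R] [Comod k A R] [GLin.IsCoactAlg k A R] [CommRing S]
    [Algebra k S] [Comod k A S] [GLin.IsCoactAlg k A S] (φ : S →ₐ[k] R) (hφ : Hoch.IsComodHom A φ.toLinearMap)
    (z : R →ₐ[k] k) : GLin.stabIdeal k A (z.comp φ) ≤ GLin.stabIdeal k A z := by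
  refine Ideal.map_le_iff_le_comap.2 fun s hs => ?_
  rw [Ideal.mem_comap, ← orbitHom_comp φ hφ z]
  exact Ideal.mem_map_of_mem _ hs

variable {S R : Type u} [CommRing S] [Algebra k S] [Algebra.FiniteType k S] [Comod k A S] [GLin.IsCoactAlg k A S]
  [CommRing R] [Algebra k R] [Algebra.FiniteType k R] [Comod k A R] [GLin.IsCoactAlg k A R]
  [Algebra S R] [IsScalarTower k S R]

/-- Near a closed orbit along which a map is étale and injective, all points lift with the same stabilizer. -/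
theorem exists_invariant_lift_aux
    (hequiv : ∀ s : S, Comod.coact (k := k) (A := A) (algebraMap S R s) =
      Algebra.TensorProduct.map (IsScalarTower.toAlgHom k S R) (AlgHom.id k A) (Comod.coact (k := k) (A := A) s))
    (hG : IsLinearlyReductive k A) (x : R →ₐ[k] k) [(RingHom.ker x).IsPrime]
    (hx : GLin.IsClosedOrbit k A x) (het : Algebra.IsEtaleAt S (RingHom.ker x))
    (hy : GLin.IsClosedOrbit k A (x.comp (IsScalarTower.toAlgHom k S R)))
    (hinj : ∀ g : A →ₐ[k] k, GLin.actPt k g (x.comp (IsScalarTower.toAlgHom k S R)) =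
      x.comp (IsScalarTower.toAlgHom k S R) → GLin.actPt k g x = x)
    {S₀ : Type u} [CommRing S₀] [Algebra k S₀] [Algebra S₀ S] [IsScalarTower k S₀ S]
    (hS₀i : Function.Injective (algebraMap S₀ S))
    (hS₀ : (IsScalarTower.toAlgHom k S₀ S).range = GLin.invariants k A S)
    {R₀ : Type u} [CommRing R₀] [Algebra k R₀] [Algebra R₀ R] [IsScalarTower k R₀ R]
    (hR₀i : Function.Injective (algebraMap R₀ R))
    (hR₀ : (IsScalarTower.toAlgHom k R₀ R).range = GLin.invariants k A R)
    [Algebra S₀ R₀] [Algebra S₀ R] [IsScalarTower S₀ S R] [IsScalarTower S₀ R₀ R] [IsScalarTower k S₀ R₀] :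
    ∃ g ∈ GLin.invariants k A S, x (algebraMap S R g) ≠ 0 ∧ ∀ y : S →ₐ[k] k, y g ≠ 0 →
      ∃ z : R →ₐ[k] k, z.comp (IsScalarTower.toAlgHom k S R) = y ∧
        ∀ γ : A →ₐ[k] k, GLin.stabIdeal k A (GLin.actPt k γ z) ≤ GLin.stabIdeal k A (GLin.actPt k γ y) := by
  let φ : S →ₐ[k] R := IsScalarTower.toAlgHom k S R
  have hφ : Hoch.IsComodHom A φ.toLinearMap := LinearMap.ext hequiv
  obtain ⟨α, hα, h1⟩ := exists_isIntegral_of_isLinearlyReductive hG
  haveI := H20Luna.finiteType_invariants (k := k) (A := A) hα h1 hS₀i hS₀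
  haveI := H20Luna.finiteType_invariants (k := k) (A := A) hα h1 hR₀i hR₀
  haveI : IsNoetherianRing S₀ := Algebra.FiniteType.isNoetherianRing k S₀
  haveI : Algebra.FiniteType S₀ R₀ := Algebra.FiniteType.of_restrictScalars_finiteType k S₀ R₀
  haveI : Algebra.FinitePresentation S₀ R₀ := Algebra.FinitePresentation.of_finiteType.mp inferInstance
  obtain ⟨a, ha, hker, hrange⟩ := H20Luna.exists_cartesian_nhd hequiv hG x hx hy hinj het hS₀i hS₀ hR₀i hR₀
  haveI := H20Luna.isEtaleAt_invariants hequiv x hG hx hy hinj het hS₀i hS₀ hR₀i hR₀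
  obtain ⟨h, hh, hEt⟩ := Algebra.exists_etale_of_isEtaleAt (R := S₀) ((RingHom.ker x).comap (algebraMap R₀ R))
  have hopen : IsOpenMap (PrimeSpectrum.comap (algebraMap S₀ (Localization.Away h))) :=
    PrimeSpectrum.isOpenMap_comap_of_hasGoingDown_of_finitePresentation
  have hU := hopen _ (PrimeSpectrum.basicOpen (algebraMap R₀ (Localization.Away h) a)).isOpen
  have hqa : a ∉ (RingHom.ker x).comap (algebraMap R₀ R) := fun hm => by
    rw [Ideal.mem_comap, RingHom.mem_ker, ha] at hm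
    exact one_ne_zero hm
  obtain ⟨M, hM⟩ : (⟨(RingHom.ker x).comap (algebraMap R₀ R), Ideal.comap_isPrime _ _⟩ : PrimeSpectrum R₀) ∈
      Set.range (PrimeSpectrum.comap (algebraMap R₀ (Localization.Away h))) := by
    rw [PrimeSpectrum.localization_away_comap_range _ h]
    exact hh
  have hMq : M.asIdeal.comap (algebraMap R₀ (Localization.Away h)) = (RingHom.ker x).comap (algebraMap R₀ R) :=
    congrArg PrimeSpectrum.asIdeal hM
  have hpU : PrimeSpectrum.comap (algebraMap S₀ (Localization.Away h)) M ∈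
      PrimeSpectrum.comap (algebraMap S₀ (Localization.Away h)) ''
        PrimeSpectrum.basicOpen (algebraMap R₀ (Localization.Away h) a) :=
    Set.mem_image_of_mem _ fun hm => hqa (hMq ▸ hm)
  obtain ⟨_, ⟨_, ⟨g, rfl⟩, rfl⟩, hgp, hgU⟩ :=
    PrimeSpectrum.isBasis_basic_opens.exists_subset_of_mem_open hpU hU
  refine ⟨algebraMap S₀ S g, hS₀ ▸ ⟨g, rfl⟩, fun h0 => hgp ?_, fun y hy0 => ?_⟩
  · show algebraMap S₀ (Localization.Away h) g ∈ M.asIdeal
    rw [IsScalarTower.algebraMap_apply S₀ R₀ (Localization.Away h), ← Ideal.mem_comap, hMq]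
    rw [← IsScalarTower.algebraMap_apply S₀ S R, IsScalarTower.algebraMap_apply S₀ R₀ R] at h0
    exact h0
  letI : Algebra (S ⊗[S₀] R₀) R :=
    (Algebra.TensorProduct.productMap (IsScalarTower.toAlgHom S₀ S R) (IsScalarTower.toAlgHom S₀ R₀ R)).toRingHom.toAlgebra
  have hψ : ∀ (s : S) (r : R₀), algebraMap (S ⊗[S₀] R₀) R (s ⊗ₜ[S₀] r) = algebraMap S R s * algebraMap R₀ R r :=
    fun s r => by
      show Algebra.TensorProduct.productMap _ _ (s ⊗ₜ[S₀] r) = _
      simp
  haveI : IsScalarTower S (S ⊗[S₀] R₀) R := IsScalarTower.of_algebraMap_eq fun s => by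
    rw [Algebra.TensorProduct.algebraMap_apply, Algebra.algebraMap_self, RingHom.id_apply, hψ, map_one, mul_one]
  haveI := H20Luna.isLocalization_away_of_cartesian hψ a hker hrange
  haveI hyp : (RingHom.ker y).IsPrime := RingHom.ker_isPrime y
  obtain ⟨q₁, hq₁, hq₁'⟩ := hgU (a := ⟨(RingHom.ker y).comap (algebraMap S₀ S), Ideal.comap_isPrime _ _⟩) hy0
  have hc : q₁.asIdeal.comap (algebraMap S₀ (Localization.Away h)) = (RingHom.ker y).comap (algebraMap S₀ S) :=
    congrArg PrimeSpectrum.asIdeal hq₁'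
  obtain ⟨Q, hQ, haQ, hQy⟩ := H20Luna.exists_prime_away (S₀ := S₀) (R := R) a (RingHom.ker y)
    (q₁.asIdeal.comap (algebraMap R₀ (Localization.Away h))) hq₁
    (by rw [Ideal.comap_comap, ← IsScalarTower.algebraMap_eq, hc])
  haveI := hQ
  obtain ⟨z, hzQ, hza⟩ := exists_point_notMem (k := k) Q haQ
  have hzy : z.comp φ = y := AlgHom.ext fun s => by
    have : s - algebraMap k S (y s) ∈ Q.comap (algebraMap S R) := by
      rw [hQy, RingHom.mem_ker, map_sub, y.commutes]
      exact sub_self _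
    have h2 := hzQ this
    rw [RingHom.mem_ker, map_sub, map_sub, ← IsScalarTower.algebraMap_apply, z.commutes, sub_eq_zero] at h2
    exact h2
  refine ⟨z, hzy, fun γ => ?_⟩
  set z' := GLin.actPt k γ z
  set y' := GLin.actPt k γ y
  have hzy' : z'.comp φ = y' := by rw [actPt_comp φ hφ, hzy]
  have hza' : z' (algebraMap R₀ R a) ≠ 0 := by
    show γ (GLin.orbitHom k A z (algebraMap R₀ R a)) ≠ 0
    rw [orbitHom_of_invariant z (f := algebraMap R₀ R a) (hR₀ ▸ ⟨a, rfl⟩), AlgHom.commutes]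
    exact hza
  refine Ideal.map_le_iff_le_comap.2 fun b hb => ?_
  rw [Ideal.mem_comap]
  obtain ⟨n, t, ht⟩ := hrange b
  have hind : ∀ t : S ⊗[S₀] R₀, ∃ s : S,
      GLin.orbitHom k A z' (algebraMap (S ⊗[S₀] R₀) R t) = GLin.orbitHom k A y' s ∧
      z' (algebraMap (S ⊗[S₀] R₀) R t) = y' s := fun t => by
    induction t using TensorProduct.induction_on with
    | zero => exact ⟨0, by simp, by simp⟩
    | add u v hu hv =>
      obtain ⟨su, hu1, hu2⟩ := hu
      obtain ⟨sv, hv1, hv2⟩ := hv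
      exact ⟨su + sv, by rw [map_add, map_add, map_add, hu1, hv1], by rw [map_add, map_add, map_add, hu2, hv2]⟩
    | tmul s r =>
      refine ⟨z' (algebraMap R₀ R r) • s, ?_, ?_⟩
      · rw [hψ, map_mul, orbitHom_of_invariant z' (f := algebraMap R₀ R r) (hR₀ ▸ ⟨r, rfl⟩), map_smul, Algebra.smul_def, ← hzy',
          ← orbitHom_comp φ hφ z', mul_comm]
        rfl
      · rw [hψ, map_mul, map_smul, smul_eq_mul, ← hzy', mul_comm]
        rfl
  obtain ⟨s, hs1, hs2⟩ := hind t
  rw [show algebraMap (S ⊗[S₀] R₀) R t = algebraMap R₀ R a ^ n * b from ht, map_mul, map_pow] at hs1 hs2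
  rw [show z' b = 0 from hb, mul_zero] at hs2
  rw [orbitHom_of_invariant z' (f := algebraMap R₀ R a) (hR₀ ▸ ⟨a, rfl⟩)] at hs1
  have hmem : GLin.orbitHom k A y' s ∈ GLin.stabIdeal k A y' := Ideal.mem_map_of_mem _ hs2.symm
  rw [← hs1, ← map_pow] at hmem
  exact (Ideal.unit_mul_mem_iff_mem _ ((isUnit_iff_ne_zero.2 (pow_ne_zero n hza')).map _)).1 hmem

/-- Near a closed orbit along which a map is étale and injective, all points lift with the same stabilizer. -/
theorem exists_invariant_lift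
    (hequiv : ∀ s : S, Comod.coact (k := k) (A := A) (algebraMap S R s) =
      Algebra.TensorProduct.map (IsScalarTower.toAlgHom k S R) (AlgHom.id k A) (Comod.coact (k := k) (A := A) s))
    (hG : IsLinearlyReductive k A) (x : R →ₐ[k] k) [(RingHom.ker x).IsPrime]
    (hx : GLin.IsClosedOrbit k A x) (het : Algebra.IsEtaleAt S (RingHom.ker x))
    (hy : GLin.IsClosedOrbit k A (x.comp (IsScalarTower.toAlgHom k S R)))
    (hinj : ∀ g : A →ₐ[k] k, GLin.actPt k g (x.comp (IsScalarTower.toAlgHom k S R)) =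
      x.comp (IsScalarTower.toAlgHom k S R) → GLin.actPt k g x = x) :
    ∃ g ∈ GLin.invariants k A S, x (algebraMap S R g) ≠ 0 ∧ ∀ y : S →ₐ[k] k, y g ≠ 0 →
      ∃ z : R →ₐ[k] k, z.comp (IsScalarTower.toAlgHom k S R) = y ∧
        ∀ γ : A →ₐ[k] k, GLin.stabIdeal k A (GLin.actPt k γ z) ≤ GLin.stabIdeal k A (GLin.actPt k γ y) := by
  let φ : S →ₐ[k] R := IsScalarTower.toAlgHom k S R
  have hφ : Hoch.IsComodHom A φ.toLinearMap := LinearMap.ext hequiv
  let S₀ := GLin.invariants k A S
  let R₀ := GLin.invariants k A R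
  have hmap : ∀ s : S₀, φ s ∈ R₀ := fun s => by
    show Comod.coact (k := k) (A := A) (φ.toLinearMap (s : S)) = φ (s : S) ⊗ₜ[k] (1 : A)
    rw [show Comod.coact (k := k) (A := A) (φ.toLinearMap (s : S)) =
      φ.toLinearMap.rTensor A (Comod.coact (k := k) (A := A) (s : S)) from LinearMap.congr_fun hφ _,
      show Comod.coact (k := k) (A := A) (s : S) = (s : S) ⊗ₜ[k] (1 : A) from s.2]
    rfl
  letI : Algebra S₀ R₀ := ((φ.comp S₀.val).codRestrict R₀ hmap).toRingHom.toAlgebra
  haveI : IsScalarTower S₀ R₀ R := IsScalarTower.of_algebraMap_eq fun _ => rfl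
  haveI : IsScalarTower k S₀ R₀ := IsScalarTower.of_algebraMap_eq fun c => Subtype.ext (φ.commutes c).symm
  have hS₀i : Function.Injective (algebraMap S₀ S) := Subtype.val_injective
  have hR₀i : Function.Injective (algebraMap R₀ R) := Subtype.val_injective
  have hS₀ : (IsScalarTower.toAlgHom k S₀ S).range = GLin.invariants k A S := Subalgebra.range_val _
  have hR₀ : (IsScalarTower.toAlgHom k R₀ R).range = GLin.invariants k A R := Subalgebra.range_val _
  exact exists_invariant_lift_aux hequiv hG x hx het hy hinj hS₀i hS₀ hR₀i hR₀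

/-- **Semicontinuity of stabilizers** near a closed orbit. -/
theorem exists_nhd_stab_le [CharZero k] {R : Type u} [CommRing R] [Algebra k R] [Algebra.FiniteType k R] [Comod k A R]
    [GLin.IsCoactAlg k A R] (hG : IsLinearlyReductive k A) (x : R →ₐ[k] k) (hx : GLin.IsClosedOrbit k A x) :
    ∃ f ∈ GLin.invariants k A R, x f ≠ 0 ∧ ∀ x' : R →ₐ[k] k, x' f ≠ 0 →
      ∃ g : A →ₐ[k] k, GLin.stabIdeal k A x ≤ GLin.stabIdeal k A (GLin.actPt k g x') := by
  obtain ⟨ι, hι, cP, hP, π, hπs, hπ, hlin⟩ := exists_linear_presentation (k := k) (A := A) (R := R)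
  letI := cP
  haveI := hP
  obtain ⟨α, hα, h1⟩ := exists_isIntegral_of_isLinearlyReductive hG
  set xP := x.comp π
  have hxP : GLin.IsClosedOrbit k A xP := isClosedOrbit_of_forall xP fun z hz => by
    have hfac : ∀ p ∈ RingHom.ker π, z p = 0 := fun p hp => hz (by
      rw [RingHom.mem_ker, ← orbitHom_comp π hπ, AlgHom.comp_apply, show π p = 0 from hp, map_zero])
    let z₀ : R →ₐ[k] k := (Ideal.Quotient.liftₐ (RingHom.ker π) z hfac).comp
      (Ideal.quotientKerAlgEquivOfSurjective hπs).symm.toAlgHom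
    have hz₀ : z₀.comp π = z := AlgHom.ext fun p => by
      have e : (Ideal.quotientKerAlgEquivOfSurjective hπs).symm (π p) = Ideal.Quotient.mk (RingHom.ker π) p := by
        rw [AlgEquiv.symm_apply_eq]
        rfl
      show Ideal.Quotient.liftₐ _ z hfac ((Ideal.quotientKerAlgEquivOfSurjective hπs).symm (π p)) = _
      rw [e]
      rfl
    obtain ⟨g, hg⟩ := exists_actPt_eq_of_isClosedOrbit hx (z := z₀) fun f hf => by
      obtain ⟨p, rfl⟩ := hπs f
      rw [RingHom.mem_ker, ← AlgHom.comp_apply, hz₀]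
      refine hz ?_
      rw [RingHom.mem_ker, ← orbitHom_comp π hπ, AlgHom.comp_apply]
      exact hf
    exact ⟨g, by rw [← hz₀, hg, actPt_comp π hπ]⟩
  obtain ⟨W, _, _, _, cW, hW, ρ, j, w, hρ, hj, hj0, hwρ, hwj, hwcl, hwinj, hwp, het⟩ :=
    exists_slice hα h1 hlin xP hxP
  letI := ρ.toRingHom.toAlgebra
  haveI := hwp
  haveI : IsScalarTower k (MvPolynomial ι k) W := IsScalarTower.of_algebraMap_eq fun c => (ρ.commutes c).symm
  have hρe : IsScalarTower.toAlgHom k (MvPolynomial ι k) W = ρ := AlgHom.ext fun _ => rfl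
  obtain ⟨g, hg, hgx, hlift⟩ := exists_invariant_lift (S := MvPolynomial ι k) (R := W)
    (fun s => by rw [hρe]; exact LinearMap.congr_fun hρ s) hG w hwcl het
    (by rw [hρe, hwρ]; exact hxP) (by rw [hρe, hwρ]; exact hwinj)
  refine ⟨π g, ?_, ?_, fun x' hx' => ?_⟩
  · show Comod.coact (k := k) (A := A) (π.toLinearMap g) = π g ⊗ₜ[k] (1 : A)
    rw [show Comod.coact (k := k) (A := A) (π.toLinearMap g) = π.toLinearMap.rTensor A (Comod.coact (k := k) (A := A) g)
      from LinearMap.congr_fun hπ g, show Comod.coact (k := k) (A := A) g = g ⊗ₜ[k] (1 : A) from hg]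
    rfl
  · rw [show x (π g) = w (ρ g) from (AlgHom.congr_fun hwρ g).symm]
    exact hgx
  obtain ⟨z, hzy, hstab⟩ := hlift (x'.comp π) hx'
  rw [hρe] at hzy
  obtain ⟨γ, hγ⟩ := exists_actPt_eq_of_isClosedOrbit hxP (z := z.comp j) fun f hf => by
    rw [RingHom.mem_ker, AlgHom.comp_apply, hj0 f hf, map_zero]
  let δ := ((WithConv.toConv γ)⁻¹).ofConv
  have hδ : GLin.actPt k δ (z.comp j) = xP := by
    rw [hγ, actPt_actPt, WithConv.toConv_ofConv, mul_inv_cancel]
    exact actPt_one xP
  refine ⟨δ, ?_⟩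
  have h2 : GLin.stabIdeal k A x ≤ GLin.stabIdeal k A xP := Ideal.map_le_iff_le_comap.2 fun f hf => by
    obtain ⟨p, rfl⟩ := hπs f
    rw [Ideal.mem_comap, ← AlgHom.comp_apply, orbitHom_comp π hπ]
    exact Ideal.mem_map_of_mem _ hf
  refine h2.trans (le_trans ?_ (le_trans (hstab δ) ?_))
  · rw [← hδ, ← actPt_comp j hj]
    exact stabIdeal_comp_le j hj _
  · rw [← actPt_comp π hπ]
    exact stabIdeal_comp_le π hπ _

end

end Groth.Agent.H20Slice
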